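import Groth.Agent.Lib.Helper22.CohTop.InjFlasque
import Mathlib.Algebra.Homology.DerivedCategory.Ext.ExactSequences

/-!
# Flasque sheaves are acyclic
-/

set_option autoImplicit false

universe u

open CategoryTheory TopologicalSpace Opposite CategoryTheory.Limits Abelian

namespace Groth.Agent.Lib.Helper22.CohTop

variable {X : TopCat.{u}}

/-- The short complex `0 → F → I → I/F → 0` with `I` the chosen injective hull. -/
noncomputable abbrev injSC (F : CohTop.Ab X) : ShortComplex (CohTop.Ab X) :=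
  ShortComplex.mk (Injective.ι F) (cokernel.π (Injective.ι F)) (cokernel.condition _)

lemma injSC_shortExact (F : CohTop.Ab X) : (injSC F).ShortExact :=
  { exact := ShortComplex.exact_cokernel _ }

instance (F : CohTop.Ab X) : Injective (injSC F).X₂ :=
  inferInstanceAs (Injective (Injective.under F))

instance (F : CohTop.Ab X) : TopCat.Sheaf.IsFlasque (injSC F).X₂ :=
  isFlasque_of_injective _

instance injSC_X₃_flasque (F : CohTop.Ab X) [TopCat.Sheaf.IsFlasque F] :
    TopCat.Sheaf.IsFlasque (injSC F).X₃ := by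
  have : TopCat.Sheaf.IsFlasque (injSC F).X₁ := ‹_›
  exact TopCat.Sheaf.IsFlasque.of_shortExact_of_isFlasque₁₂ (injSC_shortExact F)

/-- `P` has the lifting property against short exact sequences with flasque kernel. -/
def LiftsFlasque (P : CohTop.Ab X) : Prop :=
  ∀ (S : ShortComplex (CohTop.Ab X)) (_ : S.ShortExact) [TopCat.Sheaf.IsFlasque S.X₁]
    (y : Ext P S.X₃ 0), ∃ z : Ext P S.X₂ 0, z.comp (Ext.mk₀ S.g) (add_zero 0) = y

theorem ext_succ_eq_zero_of_flasque {P : CohTop.Ab X} (hP : LiftsFlasque P) (n : ℕ) :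
    ∀ (F : CohTop.Ab X) [TopCat.Sheaf.IsFlasque F] (x : Ext P F (n + 1)), x = 0 := by
  induction n with
  | zero =>
    intro F _ x
    have hS := injSC_shortExact F
    have h0 : x.comp (Ext.mk₀ (injSC F).f) (add_zero 1) = 0 := Ext.eq_zero_of_injective _
    obtain ⟨x₃, hx₃⟩ := Ext.covariant_sequence_exact₁ P hS x h0 (zero_add 1)
    obtain ⟨z, hz⟩ := hP (injSC F) hS x₃
    rw [← hx₃, ← hz, Ext.comp_assoc_of_second_deg_zero, hS.comp_extClass, Ext.comp_zero]
  | succ n ih =>
    intro F _ x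
    have hS := injSC_shortExact F
    have h0 : x.comp (Ext.mk₀ (injSC F).f) (add_zero (n + 1 + 1)) = 0 :=
      Ext.eq_zero_of_injective _
    obtain ⟨x₃, hx₃⟩ := Ext.covariant_sequence_exact₁ P hS x h0 (n₀ := n + 1) rfl
    rw [← hx₃, ih (injSC F).X₃ x₃, Ext.zero_comp]

theorem subsingleton_ext_succ_of_flasque {P : CohTop.Ab X} (hP : LiftsFlasque P) (n : ℕ)
    (F : CohTop.Ab X) [TopCat.Sheaf.IsFlasque F] : Subsingleton (Ext P F (n + 1)) :=
  subsingleton_of_forall_eq 0 fun x => ext_succ_eq_zero_of_flasque hP n F x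

/-- `ℤ_U` lifts against flasque kernels. -/
theorem liftsFlasque_ZU (U : Opens X) : LiftsFlasque (ZU U) := by
  intro S hS _ y
  have hepi : Epi (S.g.1.app (op U)) := TopCat.Sheaf.IsFlasque.epi_of_shortExact hS
  rw [AddCommGrpCat.epi_iff_surjective] at hepi
  obtain ⟨t, ht⟩ := hepi (homEquivSections U S.X₃ (Ext.homEquiv₀ y))
  refine ⟨Ext.mk₀ ((homEquivSections U S.X₂).symm t), ?_⟩
  rw [Ext.mk₀_comp_mk₀]
  have : (homEquivSections U S.X₂).symm t ≫ S.g = Ext.homEquiv₀ y := by
    apply (homEquivSections U S.X₃).injective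
    rw [homEquivSections_naturality_right, Equiv.apply_symm_apply]
    exact ht
  rw [this, Ext.mk₀_homEquiv₀_apply]

/-- The constant sheaf `ℤ` lifts against flasque kernels. -/
theorem liftsFlasque_const (X : TopCat.{u}) :
    LiftsFlasque ((constantSheaf (Opens.grothendieckTopology X) AddCommGrpCat.{u}).obj
      (AddCommGrpCat.of (ULift ℤ))) := by
  intro S hS _ y
  have hT : IsTerminal (⊤ : Opens X) := isTerminalTop
  have hepi : Epi (S.g.1.app (op (⊤ : Opens X))) := TopCat.Sheaf.IsFlasque.epi_of_shortExact hS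
  rw [AddCommGrpCat.epi_iff_surjective] at hepi
  obtain ⟨t, ht⟩ := hepi (Sheaf.H.equiv₀ S.X₃ hT y)
  refine ⟨(Sheaf.H.equiv₀ S.X₂ hT).symm t, ?_⟩
  have h := Sheaf.H.equiv₀_symm_naturality (hT := hT) S.g t
  rw [Sheaf.H.map_apply] at h
  rw [h]
  apply (Sheaf.H.equiv₀ S.X₃ hT).injective
  rw [AddEquiv.apply_symm_apply]
  exact ht

theorem subsingleton_HU_succ_of_flasque (F : CohTop.Ab X) [TopCat.Sheaf.IsFlasque F]
    (U : Opens X) (n : ℕ) : Subsingleton (CohTop.HU F (n + 1) U) :=
  subsingleton_ext_succ_of_flasque (liftsFlasque_ZU U) n F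

theorem subsingleton_H_succ_of_flasque (F : CohTop.Ab X) [TopCat.Sheaf.IsFlasque F]
    (n : ℕ) : Subsingleton (CohTop.H F (n + 1)) :=
  subsingleton_ext_succ_of_flasque (liftsFlasque_const X) n F

end Groth.Agent.Lib.Helper22.CohTop
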