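import Groth.Agent.Lib.Helper22.CohTop.FlasqueTower
import Groth.Prelude.Def_CohCx

/-!
# Sections with support in a closed subset: `Γ_Z(F)` of a flasque sheaf is flasque
-/

set_option autoImplicit false

universe u

open CategoryTheory TopologicalSpace Opposite CategoryTheory.Limits

namespace Groth.Agent.Lib.Helper22.CohTop

variable {X : TopCat.{u}}

/-- Restriction of sections along `h : W ≤ V`. -/
noncomputable abbrev rs (F : CohTop.Ab X) {V W : Opens X} (h : W ≤ V) :
    F.obj.obj (op V) ⟶ F.obj.obj (op W) := F.obj.map (homOfLE h).op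

lemma rs_rs (F : CohTop.Ab X) {V W W' : Opens X} (h : W ≤ V) (h' : W' ≤ W)
    (s : F.obj.obj (op V)) : rs F h' (rs F h s) = rs F (h'.trans h) s := by
  unfold rs
  rw [← ConcreteCategory.comp_apply, ← F.obj.map_comp]
  rfl

lemma rs_self (F : CohTop.Ab X) {V : Opens X} (h : V ≤ V) (s : F.obj.obj (op V)) :
    rs F h s = s := by
  unfold rs
  have : (homOfLE h).op = 𝟙 (op V) := rfl
  rw [this, F.obj.map_id]
  rfl

/-- Gluing two sections of a sheaf. -/
theorem exists_glue₂ (F : CohTop.Ab X) {U₁ U₂ : Opens X} (s₁ : F.obj.obj (op U₁))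
    (s₂ : F.obj.obj (op U₂))
    (h : rs F (inf_le_left : U₁ ⊓ U₂ ≤ U₁) s₁ = rs F (inf_le_right : U₁ ⊓ U₂ ≤ U₂) s₂) :
    ∃ s : F.obj.obj (op (U₁ ⊔ U₂)),
      rs F (le_sup_left : U₁ ≤ U₁ ⊔ U₂) s = s₁ ∧ rs F (le_sup_right : U₂ ≤ U₁ ⊔ U₂) s = s₂ := by
  let Uf : Bool → Opens X := fun b => cond b U₁ U₂
  let sf : ∀ b : Bool, ToType (F.obj.obj (op (Uf b))) := fun b =>
    match b with
    | true => s₁
    | false => s₂
  have hc : TopCat.Presheaf.IsCompatible F.obj Uf sf := by
    intro a b
    cases a <;> cases b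
    · rfl
    · have h' := congrArg (rs F (le_inf inf_le_right inf_le_left : U₂ ⊓ U₁ ≤ U₁ ⊓ U₂)) h
      rw [rs_rs, rs_rs] at h'
      exact h'.symm
    · exact h
    · rfl
  have hle : ∀ b : Bool, Uf b ≤ U₁ ⊔ U₂ := fun b => by
    cases b
    · exact le_sup_right
    · exact le_sup_left
  have hcover : U₁ ⊔ U₂ ≤ iSup Uf := sup_le (le_iSup Uf true) (le_iSup Uf false)
  obtain ⟨s, hs, -⟩ := TopCat.Sheaf.existsUnique_gluing' (F := F) Uf (U₁ ⊔ U₂)
    (fun b => homOfLE (hle b)) hcover sf hc
  exact ⟨s, hs true, hs false⟩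

/-- A monomorphism of sheaves is injective on sections. -/
lemma injective_app_of_mono {Y : TopCat.{u}} {F G : CohTop.Ab Y} (f : F ⟶ G) [Mono f]
    (W : Opens Y) : Function.Injective (f.hom.app (op W)) := by
  have h1 : Mono ((sheafToPresheaf (Opens.grothendieckTopology Y) AddCommGrpCat.{u}).map f) :=
    inferInstance
  have h2 : Mono (((sheafToPresheaf (Opens.grothendieckTopology Y) AddCommGrpCat.{u}).map
    f).app (op W)) := inferInstance
  exact (AddCommGrpCat.mono_iff_injective _).mp h2

variable (U : Opens X)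

/-- The unit `F ⟶ j_* j⁻¹ F` for the inclusion `j` of the open `U`. -/
noncomputable abbrev unitU (F : CohTop.Ab X) :
    F ⟶ (CohTop.push (CohCx.incl U)).obj ((CohTop.pull (CohCx.incl U)).obj F) :=
  (TopCat.Sheaf.pullbackPushforwardAdjunction AddCommGrpCat.{u} (CohCx.incl U)).unit.app F

lemma isOpenEmbedding_incl : Topology.IsOpenEmbedding (CohCx.incl U) :=
  U.isOpenEmbedding

/-- The pullback of the unit is a split monomorphism. -/
instance mono_pull_unitU (F : CohTop.Ab X) :
    Mono ((CohTop.pull (CohCx.incl U)).map (unitU U F)) := by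
  have h := (TopCat.Sheaf.pullbackPushforwardAdjunction AddCommGrpCat.{u}
    (CohCx.incl U)).left_triangle_components F
  exact (SplitMono.mk _ h).mono

/-- The naive restriction of the unit is a monomorphism. -/
lemma mono_naive_unitU (F : CohTop.Ab X) :
    Mono (((isOpenEmbedding_incl U).sheafPullback AddCommGrpCat.{u}).map (unitU U F)) := by
  have e := Topology.IsOpenEmbedding.sheafPullbackIso AddCommGrpCat.{u} (isOpenEmbedding_incl U)
  have h := NatIso.naturality_1 e (unitU U F)
  rw [← h]
  have h1 : Mono ((TopCat.Sheaf.pullback AddCommGrpCat.{u} (CohCx.incl U)).map (unitU U F)) :=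
    mono_pull_unitU U F
  have i1 : IsIso (e.inv.app F) := (Iso.app e.symm F).isIso_hom
  have i2 : IsIso (e.hom.app ((CohTop.push (CohCx.incl U)).obj
      ((CohTop.pull (CohCx.incl U)).obj F))) := (Iso.app e _).isIso_hom
  have m1 : Mono (e.inv.app F) := inferInstance
  have m2 : Mono (e.hom.app ((CohTop.push (CohCx.incl U)).obj
      ((CohTop.pull (CohCx.incl U)).obj F))) := inferInstance
  have h2 := mono_comp ((TopCat.Sheaf.pullback AddCommGrpCat.{u} (CohCx.incl U)).map (unitU U F))
    (e.hom.app ((CohTop.push (CohCx.incl U)).obj ((CohTop.pull (CohCx.incl U)).obj F)))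
  exact mono_comp _ _

/-- The unit is injective on sections over opens of the form `j(W')`. -/
lemma unitU_injective_image (F : CohTop.Ab X) (W' : Opens (TopCat.of U)) :
    Function.Injective
      ((unitU U F).hom.app (op ((isOpenEmbedding_incl U).isOpenMap.functor.obj W'))) := by
  have hm : @Mono (CohTop.Ab (TopCat.of U)) _ _ _
      (((isOpenEmbedding_incl U).sheafPullback AddCommGrpCat.{u}).map (unitU U F)) :=
    mono_naive_unitU U F
  exact @injective_app_of_mono (TopCat.of U) _ _
    (((isOpenEmbedding_incl U).sheafPullback AddCommGrpCat.{u}).map (unitU U F)) hm W'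

/-- The unit is injective on sections over opens contained in `U`. -/
lemma unitU_injective_of_le (F : CohTop.Ab X) {W : Opens X} (hW : W ≤ U) :
    Function.Injective ((unitU U F).hom.app (op W)) := by
  obtain ⟨W', rfl⟩ : ∃ W' : Opens (TopCat.of U),
      W = (isOpenEmbedding_incl U).isOpenMap.functor.obj W' := by
    refine ⟨(Opens.map (CohCx.incl U)).obj W, ?_⟩
    ext x
    constructor
    · intro hx
      exact ⟨⟨x, hW hx⟩, hx, rfl⟩
    · rintro ⟨y, hy, rfl⟩
      exact hy
  exact unitU_injective_image U F W'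

/-- Sections of `j_* G` over `V` are determined by their restriction to `V ⊓ U`. -/
lemma push_incl_rs_injective (G : CohTop.Ab (TopCat.of U)) (V : Opens X) :
    Function.Injective (rs ((CohTop.push (CohCx.incl U)).obj G) (inf_le_left : V ⊓ U ≤ V)) := by
  intro s t hst
  have hle : (Opens.map (CohCx.incl U)).obj V ≤ (Opens.map (CohCx.incl U)).obj (V ⊓ U) := by
    intro y hy
    exact ⟨hy, y.2⟩
  have hle' : (Opens.map (CohCx.incl U)).obj (V ⊓ U) ≤ (Opens.map (CohCx.incl U)).obj V :=
    fun y hy => hy.1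
  have h1 : ∀ a : G.obj.obj (op ((Opens.map (CohCx.incl U)).obj V)),
      rs G hle (rs G hle' a) = a := by
    intro a
    rw [rs_rs]
    exact rs_self G _ a
  have hst' : rs G hle' (s : G.obj.obj (op ((Opens.map (CohCx.incl U)).obj V))) =
      rs G hle' (t : G.obj.obj (op ((Opens.map (CohCx.incl U)).obj V))) := hst
  have := congrArg (rs G hle) hst'
  exact (h1 s).symm.trans (this.trans (h1 t))

/-- A section killed by the unit vanishes on `V ⊓ U`, and conversely. -/
lemma unitU_app_eq_zero_iff (F : CohTop.Ab X) (V : Opens X) (s : F.obj.obj (op V)) :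
    (unitU U F).hom.app (op V) s = 0 ↔ rs F (inf_le_left : V ⊓ U ≤ V) s = 0 := by
  have hnat := NatTrans.naturality_apply (unitU U F).hom (homOfLE (inf_le_left : V ⊓ U ≤ V)).op s
  constructor
  · intro h
    apply unitU_injective_of_le U F (inf_le_right : V ⊓ U ≤ U)
    rw [map_zero]
    refine hnat.trans ?_
    rw [h, map_zero]
  · intro h
    apply push_incl_rs_injective U _ V
    rw [map_zero]
    refine hnat.symm.trans ?_
    change (unitU U F).hom.app (op (V ⊓ U)) (rs F (inf_le_left : V ⊓ U ≤ V) s) = 0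
    rw [h, map_zero]

/-- `Γ_Z(F)` is flasque when `F` is. -/
theorem isFlasque_sectSupp (A : CohTop.Ab X) (hA : TopCat.Sheaf.IsFlasque A) :
    TopCat.Sheaf.IsFlasque (CohCx.sectSupp U A) := by
  constructor
  intro Vo V'o i
  obtain ⟨V⟩ := Vo
  obtain ⟨V'⟩ := V'o
  have hV'V : V' ≤ V := leOfHom i.unop
  refine (AddCommGrpCat.epi_iff_surjective _).mpr fun s => ?_
  -- the kernel inclusion
  let ι : CohCx.sectSupp U A ⟶ A := kernel.ι (unitU U A)
  have hιmono : ∀ W : Opens X, Function.Injective (ι.hom.app (op W)) := by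
    intro W
    have h0 : Mono (kernel.ι (unitU U A)) := inferInstance
    change Function.Injective ((kernel.ι (unitU U A)).hom.app (op W))
    have h1 : Mono ((sheafToPresheaf (Opens.grothendieckTopology X) AddCommGrpCat.{u}).map
      (kernel.ι (unitU U A))) := inferInstance
    have h2 : Mono (((sheafToPresheaf (Opens.grothendieckTopology X) AddCommGrpCat.{u}).map
      (kernel.ι (unitU U A))).app (op W)) := inferInstance
    exact (AddCommGrpCat.mono_iff_injective _).mp h2
  have hιη : ∀ (W : Opens X) (a : (CohCx.sectSupp U A).obj.obj (op W)),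
      (unitU U A).hom.app (op W) (ι.hom.app (op W) a) = 0 := by
    intro W a
    have h0 : ι.hom.app (op W) ≫ (unitU U A).hom.app (op W) = 0 := by
      rw [← NatTrans.comp_app, ← ObjectProperty.FullSubcategory.comp_hom, kernel.condition]
      rfl
    have h1 := ConcreteCategory.congr_hom h0 a
    rw [ConcreteCategory.comp_apply] at h1
    exact h1
  -- exactness on sections
  have hSex : (ShortComplex.mk ι (unitU U A) (kernel.condition _)).Exact :=
    ShortComplex.exact_of_f_is_kernel _ (kernelIsKernel _)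
  have hlift : ∀ (W : Opens X) (a : A.obj.obj (op W)), (unitU U A).hom.app (op W) a = 0 →
      ∃ b : (CohCx.sectSupp U A).obj.obj (op W), ι.hom.app (op W) b = a := by
    intro W a ha
    exact TopCat.Sheaf.sections_exact_of_left_exact hSex
      (show Mono (kernel.ι (unitU U A)) from inferInstance) a ha
  -- the section of `A` over `V'`
  let s₀ := ι.hom.app (op V') s
  have hs₀ : rs A (inf_le_left : V' ⊓ U ≤ V') s₀ = 0 :=
    (unitU_app_eq_zero_iff U A V' s₀).1 (hιη V' s)
  -- glue `s₀` on `V'` with `0` on `V ⊓ U`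
  obtain ⟨g, hg1, hg2⟩ := exists_glue₂ A s₀ (0 : A.obj.obj (op (V ⊓ U))) (by
    rw [map_zero]
    have hle : V' ⊓ (V ⊓ U) ≤ V' ⊓ U := inf_le_inf_left _ inf_le_right
    have := congrArg (rs A hle) hs₀
    rw [rs_rs, map_zero] at this
    exact this)
  have hWV : V' ⊔ (V ⊓ U) ≤ V := sup_le hV'V inf_le_left
  obtain ⟨t, ht⟩ := IsFlasque.exists_extend hA (homOfLE hWV).op g
  have ht' : rs A hWV t = g := ht
  -- `t` is supported in `Z`
  have htU : rs A (inf_le_left : V ⊓ U ≤ V) t = 0 := by
    have := congrArg (rs A (le_sup_right : V ⊓ U ≤ V' ⊔ (V ⊓ U))) ht'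
    rw [rs_rs, hg2] at this
    exact this
  obtain ⟨t', ht'2⟩ := hlift V t ((unitU_app_eq_zero_iff U A V t).2 htU)
  refine ⟨t', ?_⟩
  apply hιmono V'
  have hnat := NatTrans.naturality_apply ι.hom i t'
  refine hnat.trans ?_
  rw [ht'2]
  change rs A hV'V t = s₀
  have := congrArg (rs A (le_sup_left : V' ≤ V' ⊔ (V ⊓ U))) ht'
  rw [rs_rs, hg1] at this
  exact this

end Groth.Agent.Lib.Helper22.CohTop
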