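import Groth.Agent.Lib.Helper22.CohTop.Leray
import Mathlib.Topology.Sheaves.Over

/-!
# `H^n(U, F) ≅ H^n(U, F|_U)`
-/

set_option autoImplicit false

universe u

open CategoryTheory TopologicalSpace Opposite CategoryTheory.Limits Abelian

namespace Groth.Agent.Lib.Helper22.CohTop

open ExtCompare

variable {X : TopCat.{u}} (U : Opens X)

/-- The functor `Opens U ⥤ Opens X`. -/
abbrev ιU : Opens (TopCat.of U) ⥤ Opens X := U.isOpenEmbedding.isOpenMap.functor

noncomputable instance : PreservesFiniteLimits (CohTop.restrFunctor U) := by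
  have h : PreservesLimitsOfSize.{0, 0} (CohTop.restrFunctor U) :=
    (Adjunction.ofIsRightAdjoint (CohTop.restrFunctor U)).rightAdjoint_preservesLimits
  exact PreservesLimitsOfSize.preservesFiniteLimits _

lemma ιU_obj_le (V : Opens (TopCat.of U)) : (ιU U).obj V ≤ U := by
  rintro _ ⟨y, _, rfl⟩
  exact y.2

lemma mem_ιU_obj {V : Opens (TopCat.of U)} {y : U} : (y : X) ∈ (ιU U).obj V ↔ y ∈ V := by
  constructor
  · rintro ⟨z, hz, hzy⟩
    have : z = y := Subtype.ext hzy
    exact this ▸ hz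
  · intro hy
    exact ⟨y, hy, rfl⟩

/-- Restriction to an open preserves epimorphisms. -/
theorem epi_restr_map {G H : CohTop.Ab X} (g : G ⟶ H) [Epi g] :
    Epi ((CohTop.restrFunctor U).map g) := by
  refine (TopCat.Sheaf.isLocallySurjective_iff_epi ((CohTop.restrFunctor U).map g)).mp ?_
  rw [TopCat.Presheaf.isLocallySurjective_iff]
  intro V t y hy
  have hls := (TopCat.Presheaf.isLocallySurjective_iff g.hom).mp
    ((TopCat.Sheaf.isLocallySurjective_iff_epi g).mpr ‹Epi g›)
  obtain ⟨W, hW, ⟨s, hs⟩, hyW⟩ := hls ((ιU U).obj V) t y.1 ((mem_ιU_obj U).2 hy)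
  let V' : Opens (TopCat.of U) := (Opens.map U.inclusion').obj W
  have hV'W : (ιU U).obj V' ≤ W := by
    rintro _ ⟨z, hz, rfl⟩
    exact hz
  have hV'V : V' ≤ V := by
    intro z hz
    have : (z : X) ∈ (ιU U).obj V := hW hz
    exact (mem_ιU_obj U).1 this
  refine ⟨V', hV'V, ⟨(G.obj.map (homOfLE hV'W).op).hom s, ?_⟩, hyW⟩
  have h1 := ConcreteCategory.congr_hom (g.hom.naturality (homOfLE hV'W).op) s
  rw [ConcreteCategory.comp_apply, ConcreteCategory.comp_apply] at h1
  refine h1.trans ?_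
  rw [hs]
  change (H.obj.map _).hom ((H.obj.map _).hom t) = (H.obj.map _).hom t
  rw [← ConcreteCategory.comp_apply, ← H.obj.map_comp]
  rfl

instance restr_isFlasque (G : CohTop.Ab X) [TopCat.Sheaf.IsFlasque G] :
    TopCat.Sheaf.IsFlasque (CohTop.restr G U) where
  epi {V W} i := by
    have : Epi (G.obj.map ((ιU U).map i.unop).op) := inferInstance
    exact this

/-- `Γ(ι⊤, G) = Γ(U, G|_U)`. -/
noncomputable def deg0Restr :
    Deg0Iso (CohTop.restrFunctor U) (ZU ((ιU U).obj ⊤)) (constZ (TopCat.of U)) where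
  e G := Ext.addEquiv₀.trans ((homAddEquivSections ((ιU U).obj ⊤) G).trans
    (Sheaf.H.equiv₀ (CohTop.restr G U) (isTerminalTop : IsTerminal (⊤ : Opens (TopCat.of U)))).symm)
  nat {G G'} g x := by
    obtain ⟨φ, rfl⟩ := Ext.addEquiv₀.symm.surjective x
    have h2 := Sheaf.H.equiv₀_symm_naturality
      (hT := (isTerminalTop : IsTerminal (⊤ : Opens (TopCat.of U))))
      ((CohTop.restrFunctor U).map g) (homEquivSections ((ιU U).obj ⊤) G φ)
    rw [Sheaf.H.map_apply] at h2
    have h3 : Ext.addEquiv₀ ((Ext.addEquiv₀.symm φ).comp (Ext.mk₀ g) (add_zero 0)) = φ ≫ g := by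
      change Ext.addEquiv₀ ((Ext.mk₀ φ).comp (Ext.mk₀ g) (add_zero 0)) = φ ≫ g
      rw [Ext.mk₀_comp_mk₀]
      exact Ext.addEquiv₀.apply_symm_apply _
    simp only [AddEquiv.trans_apply, AddEquiv.apply_symm_apply, homAddEquivSections_apply]
    rw [h3, homEquivSections_naturality_right]
    exact h2.symm

theorem nonempty_HU_addEquiv_H_restr (F : CohTop.Ab X) (n : ℕ) :
    Nonempty (CohTop.HU F n U ≃+ CohTop.H (CohTop.restr F U) n) := by
  have key : Nonempty (Ext (ZU ((ιU U).obj ⊤)) F n ≃+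
      Ext (constZ (TopCat.of U)) ((CohTop.restrFunctor U).obj F) n) := by
    refine nonempty_ext_addEquiv (deg0Restr U) (fun _ => True) ?_ ?_ ?_ n F trivial
    · intro F _
      have : Epi (ExtCompare.injSC F).g := (ExtCompare.injSC_shortExact F).epi_g
      exact shortExact_map_of_epi (CohTop.restrFunctor U) (ExtCompare.injSC_shortExact F)
        (epi_restr_map U (ExtCompare.injSC F).g)
    · intro _ _
      trivial
    · intro F _ n x
      have : TopCat.Sheaf.IsFlasque (ExtCompare.injSC F).X₂ := isFlasque_of_injective _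
      have : TopCat.Sheaf.IsFlasque ((CohTop.restrFunctor U).obj (ExtCompare.injSC F).X₂) :=
        restr_isFlasque U _
      exact ext_succ_eq_zero_of_flasque (liftsFlasque_const (TopCat.of U)) n _ x
  have h : (ιU U).obj ⊤ = U := Opens.isOpenEmbedding_obj_top U
  rw [h] at key
  exact key

end Groth.Agent.Lib.Helper22.CohTop
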