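import Groth.Agent.Lib.Helper22.CohTop.FlasqueAcyclic
import Groth.Agent.Lib.Helper22.DimShift

/-!
# Higher direct images: flasque sheaves are `f_*`-acyclic
-/

set_option autoImplicit false

universe u

open CategoryTheory TopologicalSpace Opposite CategoryTheory.Limits Abelian

namespace Groth.Agent.Lib.Helper22.CohTop

variable {X Y : TopCat.{u}} (f : X ⟶ Y)

noncomputable instance : PreservesFiniteLimits (CohTop.push f) := by
  have h : PreservesLimitsOfSize.{0, 0} (CohTop.push f) :=
    (TopCat.Sheaf.pullbackPushforwardAdjunction AddCommGrpCat.{u} f).rightAdjoint_preservesLimits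
  exact PreservesLimitsOfSize.preservesFiniteLimits _

/-- `f_*` of an epimorphism with flasque kernel is an epimorphism. -/
theorem epi_push_map_of_flasque_kernel (S : ShortComplex (CohTop.Ab X)) (hS : S.ShortExact)
    [TopCat.Sheaf.IsFlasque S.X₁] : Epi ((CohTop.push f).map S.g) := by
  have h : Epi ((CohTop.push f).map S.g).hom := by
    have : ∀ V, Epi (((CohTop.push f).map S.g).hom.app V) := by
      intro V
      have := TopCat.Sheaf.IsFlasque.epi_of_shortExact (U := (Opens.map f).obj V.unop) hS
      exact this
    exact @NatTrans.epi_of_epi_app _ _ _ _ _ _ ((CohTop.push f).map S.g).hom this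
  exact Sheaf.Hom.epi_of_presheaf_epi _ _ ((CohTop.push f).map S.g)

/-- Flasque sheaves have vanishing higher direct images. -/
theorem isZero_Rpush_succ_of_flasque (q : ℕ) : ∀ (F : CohTop.Ab X) [TopCat.Sheaf.IsFlasque F],
    IsZero ((CohTop.Rpush f (q + 1)).obj F) := by
  induction q with
  | zero =>
    intro F _
    have : TopCat.Sheaf.IsFlasque (injSC F).X₁ := ‹_›
    exact (DimShift.isZero_rightDerived_one_iff (CohTop.push f) (injSC F) (injSC_shortExact F)).2
      (epi_push_map_of_flasque_kernel f (injSC F) (injSC_shortExact F))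
  | succ q ih =>
    intro F _
    exact (DimShift.isZero_rightDerived_succ_succ_iff (CohTop.push f) (injSC F)
      (injSC_shortExact F) q).2 (ih (injSC F).X₃)

end Groth.Agent.Lib.Helper22.CohTop
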