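import Groth.Agent.Lib.Helper22.CohTop.Leray

/-!
# Pushforward along a closed embedding is exact; cohomology of a closed subspace
-/

set_option autoImplicit false

universe u

open CategoryTheory TopologicalSpace Opposite CategoryTheory.Limits Abelian

namespace Groth.Agent.Lib.Helper22.CohTop

variable {X Y : TopCat.{u}} (f : X ⟶ Y)

lemma subsingleton_sections_of_isEmpty (G : CohTop.Ab X) (U : Opens X) (hU : U = ⊥) :
    Subsingleton (G.obj.obj (op U)) :=
  AddCommGrpCat.subsingleton_of_isZero
    (TopCat.Sheaf.isTerminalOfEqEmpty (C := AddCommGrpCat.{u}) G hU).isZero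

/-- Pushforward along a closed embedding preserves epimorphisms. -/
theorem epi_push_map_of_isClosedEmbedding (hf : Topology.IsClosedEmbedding f)
    {G H : CohTop.Ab X} (g : G ⟶ H) [Epi g] : Epi ((CohTop.push f).map g) := by
  refine (TopCat.Sheaf.isLocallySurjective_iff_epi ((CohTop.push f).map g)).mp ?_
  rw [TopCat.Presheaf.isLocallySurjective_iff]
  intro V t y hy
  have hls := (TopCat.Presheaf.isLocallySurjective_iff g.hom).mp
    ((TopCat.Sheaf.isLocallySurjective_iff_epi g).mpr ‹Epi g›)
  by_cases hyr : y ∈ Set.range f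
  · obtain ⟨x, rfl⟩ := hyr
    obtain ⟨U', hU', ⟨s', hs'⟩, hxU'⟩ := hls ((Opens.map f).obj V) t x hy
    obtain ⟨W', hW'o, hW'⟩ := hf.isInducing.isOpen_iff.mp U'.isOpen
    let W : Opens Y := ⟨W', hW'o⟩ ⊓ V
    have hWU' : (Opens.map f).obj W ≤ U' := by
      intro z hz
      have : z ∈ f ⁻¹' W' := hz.1
      rw [hW'] at this
      exact this
    refine ⟨W, inf_le_right, ⟨(G.obj.map (homOfLE hWU').op).hom s', ?_⟩, ?_⟩
    · have h1 := ConcreteCategory.congr_hom (g.hom.naturality (homOfLE hWU').op) s'
      rw [ConcreteCategory.comp_apply, ConcreteCategory.comp_apply] at h1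
      refine h1.trans ?_
      rw [hs']
      change (H.obj.map _).hom ((H.obj.map _).hom t) = (H.obj.map _).hom t
      rw [← ConcreteCategory.comp_apply, ← H.obj.map_comp]
      rfl
    · refine ⟨?_, hy⟩
      have : x ∈ f ⁻¹' W' := by rw [hW']; exact hxU'
      exact this
  · let W : Opens Y := ⟨(Set.range f)ᶜ, hf.isClosed_range.isOpen_compl⟩ ⊓ V
    have hWe : (Opens.map f).obj W = ⊥ := by
      ext z
      simp only [Opens.coe_bot, Set.mem_empty_iff_false, iff_false]
      intro hz
      exact hz.1 ⟨z, rfl⟩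
    have hsub : Subsingleton (((CohTop.push f).obj H).obj.obj (op W)) :=
      subsingleton_sections_of_isEmpty H _ hWe
    refine ⟨W, inf_le_right, ⟨0, ?_⟩, ⟨hyr, hy⟩⟩
    exact Subsingleton.elim _ _

/-- If `f_*` preserves epimorphisms then all higher direct images vanish. -/
theorem isZero_Rpush_succ_of_preservesEpi
    (hepi : ∀ {G H : CohTop.Ab X} (g : G ⟶ H) [Epi g], Epi ((CohTop.push f).map g)) (q : ℕ) :
    ∀ F : CohTop.Ab X, IsZero ((CohTop.Rpush f (q + 1)).obj F) := by
  induction q with
  | zero =>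
    intro F
    have : Epi (injSC F).g := (injSC_shortExact F).epi_g
    exact (DimShift.isZero_rightDerived_one_iff (CohTop.push f) (injSC F) (injSC_shortExact F)).2
      (hepi (injSC F).g)
  | succ q ih =>
    intro F
    exact (DimShift.isZero_rightDerived_succ_succ_iff (CohTop.push f) (injSC F)
      (injSC_shortExact F) q).2 (ih (injSC F).X₃)

theorem cohomology_closedEmbedding (hf : Topology.IsClosedEmbedding f) (F : CohTop.Ab X) (p : ℕ) :
    Nonempty (CohTop.H F p ≃+ CohTop.H ((CohTop.push f).obj F) p) :=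
  leray_degenerate f F (fun q => isZero_Rpush_succ_of_preservesEpi f
    (fun g _ => epi_push_map_of_isClosedEmbedding f hf g) q F) p

end Groth.Agent.Lib.Helper22.CohTop
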