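import Groth.Agent.Lib.Helper22.CohTop.Pushforward
import Groth.Agent.Lib.Helper22.ExtCompare

/-!
# Degenerate Leray: if `R^q f_* F = 0` for `q > 0` then `H^p(X, F) ≅ H^p(Y, f_* F)`
-/

set_option autoImplicit false

universe u

open CategoryTheory TopologicalSpace Opposite CategoryTheory.Limits Abelian

namespace Groth.Agent.Lib.Helper22.CohTop

open ExtCompare

variable {X Y : TopCat.{u}} (f : X ⟶ Y)

/-- The constant sheaf `ℤ`. -/
noncomputable abbrev constZ (X : TopCat.{u}) : CohTop.Ab X :=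
  (constantSheaf (Opens.grothendieckTopology X) AddCommGrpCat.{u}).obj (AddCommGrpCat.of (ULift ℤ))

/-- `f⁻¹(⊤)` is terminal. -/
def isTerminalPreimageTop : IsTerminal ((Opens.map f).obj (⊤ : Opens Y)) :=
  (isTerminalTop : IsTerminal (⊤ : Opens X))

/-- `Γ(X, G) = Γ(Y, f_* G)`. -/
noncomputable def deg0Push : Deg0Iso (CohTop.push f) (constZ X) (constZ Y) where
  e G := (Sheaf.H.equiv₀ G (isTerminalPreimageTop f)).trans
    (Sheaf.H.equiv₀ ((CohTop.push f).obj G) (isTerminalTop : IsTerminal (⊤ : Opens Y))).symm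
  nat {G G'} g x := by
    have h1 := Sheaf.H.equiv₀_naturality (hT := isTerminalPreimageTop f) g x
    have h2 := Sheaf.H.equiv₀_symm_naturality (hT := (isTerminalTop : IsTerminal (⊤ : Opens Y)))
      ((CohTop.push f).map g) (Sheaf.H.equiv₀ G (isTerminalPreimageTop f) x)
    rw [Sheaf.H.map_apply] at h1 h2
    exact (h2.trans (congrArg
      (Sheaf.H.equiv₀ ((CohTop.push f).obj G') (isTerminalTop : IsTerminal (⊤ : Opens Y))).symm
      h1)).symm

/-- A left exact functor maps a short exact sequence to a short exact one as soon as it keeps the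
epimorphism. -/
lemma shortExact_map_of_epi {𝒜 ℬ : Type*} [Category 𝒜] [Abelian 𝒜] [Category ℬ] [Abelian ℬ]
    (Φ : 𝒜 ⥤ ℬ) [Φ.Additive] [PreservesFiniteLimits Φ] {S : ShortComplex 𝒜} (hS : S.ShortExact)
    (hepi : Epi (Φ.map S.g)) : (S.map Φ).ShortExact := by
  have hm : Mono S.f := hS.mono_f
  have h1 : (S.map Φ).Exact := hS.exact.map_of_mono_of_preservesKernel Φ hm inferInstance
  have h2 : Mono (S.map Φ).f := inferInstanceAs (Mono (Φ.map S.f))
  exact ShortComplex.ShortExact.mk' h1 h2 hepi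

theorem leray_degenerate (F : CohTop.Ab X)
    (h : ∀ q : ℕ, IsZero ((CohTop.Rpush f (q + 1)).obj F)) (p : ℕ) :
    Nonempty (CohTop.H F p ≃+ CohTop.H ((CohTop.push f).obj F) p) := by
  refine nonempty_ext_addEquiv (deg0Push f)
    (fun F => ∀ q : ℕ, IsZero ((CohTop.Rpush f (q + 1)).obj F)) ?_ ?_ ?_ p F h
  · intro F hF
    exact shortExact_map_of_epi (CohTop.push f) (ExtCompare.injSC_shortExact F)
      ((DimShift.isZero_rightDerived_one_iff (CohTop.push f) (ExtCompare.injSC F)
        (ExtCompare.injSC_shortExact F)).1 (hF 0))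
  · intro F hF q
    exact (DimShift.isZero_rightDerived_succ_succ_iff (CohTop.push f) (ExtCompare.injSC F)
      (ExtCompare.injSC_shortExact F) q).1 (hF (q + 1))
  · intro F _ n x
    have : TopCat.Sheaf.IsFlasque (ExtCompare.injSC F).X₂ := isFlasque_of_injective _
    have : TopCat.Sheaf.IsFlasque ((CohTop.push f).obj (ExtCompare.injSC F).X₂) :=
      TopCat.Sheaf.IsFlasque.pushforward_isFlasque _ f
    exact ext_succ_eq_zero_of_flasque (liftsFlasque_const Y) n _ x

end Groth.Agent.Lib.Helper22.CohTop
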