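import Groth.Agent.Lib.Helper22.CohTop.PushInjective
import Groth.Agent.Lib.Helper22.CohTop.Leray
import Groth.Agent.Lib.Helper22.FourTerm
import Groth.Agent.Lib.Helper22.Cech.Leray

/-!
# Leray with acyclic base: if all `R^q f_* F` are acyclic on `Y` then `H^q(X, F) ≅ Γ(Y, R^q f_* F)`
-/

set_option autoImplicit false
set_option linter.unusedSectionVars false
universe u
open CategoryTheory TopologicalSpace Opposite CategoryTheory.Limits Abelian

namespace Groth.Agent.Lib.Helper22.CohTop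

open ExtCompare

variable {X Y : TopCat.{u}} (f : X ⟶ Y)

/-- `Ext`-vanishing is invariant under isomorphism of the second variable. -/
lemma ext_eq_zero_of_iso {𝒞 : Type*} [Category 𝒞] [Abelian 𝒞] [HasExt 𝒞] {P G G' : 𝒞}
    (e : G ≅ G') (n : ℕ) (h : ∀ x : Ext P G n, x = 0) : ∀ x : Ext P G' n, x = 0 := by
  intro x
  have h1 : (x.comp (Ext.mk₀ e.inv) (add_zero n)).comp (Ext.mk₀ e.hom) (add_zero n) = x := by
    rw [Ext.comp_assoc_of_third_deg_zero, Ext.mk₀_comp_mk₀, e.inv_hom_id, Ext.comp_mk₀_id]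
  rw [← h1, h (x.comp (Ext.mk₀ e.inv) (add_zero n)), Ext.zero_comp]

/-- All higher direct images of `F` are acyclic on the base. -/
def BaseAcyclic (F : CohTop.Ab X) : Prop :=
  ∀ (p q : ℕ) (x : Ext (constZ Y) ((CohTop.Rpush f q).obj F) (p + 1)), x = 0

/-- Sections over `⊤` of isomorphic sheaves. -/
noncomputable def sectionsTopEquiv {G G' : CohTop.Ab Y} (e : G ≅ G') :
    G.obj.obj (op ⊤) ≃+ G'.obj.obj (op ⊤) :=
  ((sheafToPresheaf _ _ ⋙ (evaluation _ _).obj (op ⊤)).mapIso e).addCommGroupIsoToAddEquiv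

section fourterm

variable (F : CohTop.Ab X)

/-- The cokernel of `f_* I → f_* Q`. -/
noncomputable abbrev Cok : CohTop.Ab Y := cokernel ((CohTop.push f).map (ExtCompare.injSC F).g)

lemma push_w₁ : (CohTop.push f).map (ExtCompare.injSC F).f ≫
    (CohTop.push f).map (ExtCompare.injSC F).g = 0 := by
  rw [← Functor.map_comp, (ExtCompare.injSC F).zero, Functor.map_zero]

lemma push_exact₁ : (ShortComplex.mk _ _ (push_w₁ f F)).Exact := by
  have hS := ExtCompare.injSC_shortExact F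
  have hm : Mono (ExtCompare.injSC F).f := hS.mono_f
  exact hS.exact.map_of_mono_of_preservesKernel (CohTop.push f) hm inferInstance

instance : Mono ((CohTop.push f).map (ExtCompare.injSC F).f) := by
  have : Mono (ExtCompare.injSC F).f := (ExtCompare.injSC_shortExact F).mono_f
  infer_instance

lemma push_exact₂ : (ShortComplex.mk ((CohTop.push f).map (ExtCompare.injSC F).g)
    (cokernel.π ((CohTop.push f).map (ExtCompare.injSC F).g)) (cokernel.condition _)).Exact :=
  ShortComplex.exact_cokernel _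

/-- `coker (f_* I → f_* Q) ≅ R¹f_* F`. -/
noncomputable def cokIso : Cok f F ≅ (CohTop.Rpush f 1).obj F :=
  (DimShift.rightDerivedOneIso (CohTop.push f) (ExtCompare.injSC F)
    (ExtCompare.injSC_shortExact F)).symm

variable {f F} (hF : BaseAcyclic f F)

include hF

lemma BaseAcyclic.push_zero (p : ℕ) : ∀ x : Ext (constZ Y) ((CohTop.push f).obj F) (p + 1), x = 0 :=
  ext_eq_zero_of_iso ((CohTop.push f).rightDerivedZeroIsoSelf.app F) (p + 1) (hF p 0)

lemma BaseAcyclic.cok (p : ℕ) : ∀ x : Ext (constZ Y) (Cok f F) (p + 1), x = 0 :=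
  ext_eq_zero_of_iso (cokIso f F).symm (p + 1) (hF p 1)

lemma BaseAcyclic.push_injSC_X₂ (p : ℕ) :
    ∀ x : Ext (constZ Y) ((CohTop.push f).obj (ExtCompare.injSC F).X₂) (p + 1), x = 0 := by
  intro x
  have : Injective ((CohTop.push f).obj (ExtCompare.injSC F).X₂) := injective_push f _
  exact Ext.eq_zero_of_injective x

/-- The quotient `I/F` again has acyclic higher direct images. -/
lemma BaseAcyclic.quot : BaseAcyclic f (ExtCompare.injSC F).X₃ := by
  intro p q
  cases q with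
  | zero =>
    refine ext_eq_zero_of_iso ((CohTop.push f).rightDerivedZeroIsoSelf.app _).symm (p + 1) ?_
    exact FourTerm.ext_eq_zero_B _ _ _ (push_w₁ f F) (cokernel.condition _) (push_exact₁ f F)
      (push_exact₂ f F) (constZ Y) (p + 1) (hF.push_zero (p + 1)) (hF.push_injSC_X₂ p) (hF.cok p)
  | succ q =>
    exact ext_eq_zero_of_iso (DimShift.rightDerivedSuccSuccIso (CohTop.push f) (ExtCompare.injSC F)
      (ExtCompare.injSC_shortExact F) q) (p + 1) (hF p (q + 2))

omit hF in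
/-- `Ext⁰(ℤ_X, Q) → Ext⁰(ℤ_Y, coker)`. -/
noncomputable def bMap (f : X ⟶ Y) (F : CohTop.Ab X) :
    Ext (constZ X) (ExtCompare.injSC F).X₃ 0 →+ Ext (constZ Y) (Cok f F) 0 :=
  ((Ext.mk₀ (cokernel.π ((CohTop.push f).map (ExtCompare.injSC F).g))).postcomp (constZ Y)
    (add_zero 0)).comp ((deg0Push f).e (ExtCompare.injSC F).X₃).toAddMonoidHom

omit hF in
lemma bMap_apply (f : X ⟶ Y) (F : CohTop.Ab X) (t : Ext (constZ X) (ExtCompare.injSC F).X₃ 0) :
    bMap f F t = (((deg0Push f).e (ExtCompare.injSC F).X₃) t).comp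
      (Ext.mk₀ (cokernel.π ((CohTop.push f).map (ExtCompare.injSC F).g))) (add_zero 0) := rfl

omit hF in
/-- The connecting map `Ext⁰(ℤ_X, Q) → Ext¹(ℤ_X, F)`. -/
noncomputable def aMap (F : CohTop.Ab X) :
    Ext (constZ X) (ExtCompare.injSC F).X₃ 0 →+ Ext (constZ X) F 1 :=
  (ExtCompare.injSC_shortExact F).extClass.postcomp (constZ X) (zero_add 1)

omit hF in
lemma aMap_apply (F : CohTop.Ab X) (t : Ext (constZ X) (ExtCompare.injSC F).X₃ 0) :
    aMap F t = t.comp (ExtCompare.injSC_shortExact F).extClass (zero_add 1) := rfl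

omit hF in
lemma aMap_surjective (F : CohTop.Ab X) : Function.Surjective (aMap F) := by
  intro x
  obtain ⟨y, hy⟩ := Ext.covariant_sequence_exact₁ (constZ X) (ExtCompare.injSC_shortExact F) x
    (Ext.eq_zero_of_injective _) (zero_add 1)
  exact ⟨y, hy⟩

omit hF in
lemma aMap_eq_zero_iff (F : CohTop.Ab X) (t : Ext (constZ X) (ExtCompare.injSC F).X₃ 0) :
    aMap F t = 0 ↔ ∃ r : Ext (constZ X) (ExtCompare.injSC F).X₂ 0,
      r.comp (Ext.mk₀ (ExtCompare.injSC F).g) (add_zero 0) = t := by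
  rw [aMap_apply]
  constructor
  · intro h
    exact Ext.covariant_sequence_exact₃ (constZ X) (ExtCompare.injSC_shortExact F) t (zero_add 1) h
  · rintro ⟨r, rfl⟩
    rw [Ext.comp_assoc_of_second_deg_zero, (ExtCompare.injSC_shortExact F).comp_extClass,
      Ext.comp_zero]

lemma BaseAcyclic.hom_exact :
    (∀ t : constZ Y ⟶ Cok f F, ∃ s : constZ Y ⟶ (CohTop.push f).obj (ExtCompare.injSC F).X₃,
      s ≫ cokernel.π ((CohTop.push f).map (ExtCompare.injSC F).g) = t) ∧
    (∀ s : constZ Y ⟶ (CohTop.push f).obj (ExtCompare.injSC F).X₃,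
      s ≫ cokernel.π ((CohTop.push f).map (ExtCompare.injSC F).g) = 0 →
        ∃ r : constZ Y ⟶ (CohTop.push f).obj (ExtCompare.injSC F).X₂,
          r ≫ (CohTop.push f).map (ExtCompare.injSC F).g = s) :=
  FourTerm.hom_exact _ _ _ (push_w₁ f F) (cokernel.condition _) (push_exact₁ f F)
    (push_exact₂ f F) (constZ Y) (hF.push_zero 0) (hF.push_zero 1) (hF.push_injSC_X₂ 0)

lemma BaseAcyclic.bMap_surjective : Function.Surjective (bMap f F) := by
  intro t'
  obtain ⟨s₀, hs₀⟩ := hF.hom_exact.1 (Ext.homEquiv₀ t')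
  obtain ⟨t, ht⟩ := ((deg0Push f).e (ExtCompare.injSC F).X₃).surjective (Ext.mk₀ s₀)
  refine ⟨t, ?_⟩
  rw [bMap_apply, ht, Ext.mk₀_comp_mk₀, hs₀, Ext.mk₀_homEquiv₀_apply]

lemma BaseAcyclic.bMap_eq_zero_iff (t : Ext (constZ X) (ExtCompare.injSC F).X₃ 0) :
    bMap f F t = 0 ↔ ∃ r : Ext (constZ X) (ExtCompare.injSC F).X₂ 0,
      r.comp (Ext.mk₀ (ExtCompare.injSC F).g) (add_zero 0) = t := by
  rw [bMap_apply]
  constructor
  · intro h'
    obtain ⟨s₀, hs₀⟩ : ∃ s₀, ((deg0Push f).e (ExtCompare.injSC F).X₃) t = Ext.mk₀ s₀ :=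
      ⟨Ext.homEquiv₀ _, (Ext.mk₀_homEquiv₀_apply _).symm⟩
    rw [hs₀, Ext.mk₀_comp_mk₀] at h'
    have h0 : s₀ ≫ cokernel.π ((CohTop.push f).map (ExtCompare.injSC F).g) = 0 := by
      apply (Ext.mk₀_bijective _ _).1
      rw [h', Ext.mk₀_zero]
    obtain ⟨r₀, hr₀⟩ := hF.hom_exact.2 s₀ h0
    obtain ⟨r, hr⟩ := ((deg0Push f).e (ExtCompare.injSC F).X₂).surjective (Ext.mk₀ r₀)
    refine ⟨r, ?_⟩
    apply ((deg0Push f).e (ExtCompare.injSC F).X₃).injective
    rw [(deg0Push f).nat, hr, Ext.mk₀_comp_mk₀, hr₀, hs₀]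
  · rintro ⟨r, rfl⟩
    rw [(deg0Push f).nat, Ext.comp_assoc_of_second_deg_zero, Ext.mk₀_comp_mk₀, cokernel.condition,
      Ext.mk₀_zero, Ext.comp_zero]

/-- The degree one case. -/
lemma BaseAcyclic.nonempty_one :
    Nonempty (CohTop.H F 1 ≃+ ((CohTop.Rpush f 1).obj F).obj.obj (op ⊤)) := by
  let c : Ext (constZ Y) (Cok f F) 0 ≃+ ((CohTop.Rpush f 1).obj F).obj.obj (op ⊤) :=
    (Sheaf.H.equiv₀ (Cok f F) (isTerminalTop : IsTerminal (⊤ : Opens Y))).trans
      (sectionsTopEquiv (cokIso f F))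
  obtain ⟨e⟩ := Cech.nonempty_addEquiv_of_surjective_of_ker_eq (aMap F) (bMap f F)
    (aMap_surjective F) hF.bMap_surjective
    (fun t => (aMap_eq_zero_iff F t).trans (hF.bMap_eq_zero_iff t).symm)
  exact ⟨e.trans c⟩

end fourterm

/-- **Leray with acyclic base.** -/
theorem nonempty_H_addEquiv_sections_Rpush (q : ℕ) : ∀ (F : CohTop.Ab X), BaseAcyclic f F →
    Nonempty (CohTop.H F q ≃+ ((CohTop.Rpush f q).obj F).obj.obj (op ⊤)) := by
  cases q with
  | zero =>
    intro F _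
    exact ⟨(Sheaf.H.equiv₀ F (isTerminalPreimageTop f)).trans
      (sectionsTopEquiv ((CohTop.push f).rightDerivedZeroIsoSelf.app F).symm)⟩
  | succ q =>
    induction q with
    | zero => exact fun F hF => hF.nonempty_one
    | succ q ih =>
      intro F hF
      have hS := ExtCompare.injSC_shortExact F
      have e1 := ExtCompare.shiftEquiv hS (constZ X) q (fun y => Ext.eq_zero_of_injective y)
        (fun y => Ext.eq_zero_of_injective y)
      obtain ⟨e2⟩ := ih (ExtCompare.injSC F).X₃ hF.quot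
      have e3 := sectionsTopEquiv (DimShift.rightDerivedSuccSuccIso (CohTop.push f)
        (ExtCompare.injSC F) hS q).symm
      exact ⟨e1.symm.trans (e2.trans e3)⟩

end Groth.Agent.Lib.Helper22.CohTop
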