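import Groth.Agent.Lib.Helper22.CohTop.Sections

/-!
# Injective abelian sheaves are flasque
-/

set_option autoImplicit false

universe u

open CategoryTheory TopologicalSpace Opposite CategoryTheory.Limits

namespace Groth.Agent.Lib.Helper22.CohTop

variable {X : TopCat.{u}}

instance mono_freeSheafFunctor_map {U V : Opens X} (i : V ⟶ U) :
    Mono ((freeSheafFunctor X).map i) := by
  have h1 : Mono (yoneda.map i) := by
    have : ∀ W, Mono ((yoneda.map i).app W) := by
      intro W
      rw [mono_iff_injective]
      intro a b _
      exact Subsingleton.elim (α := (unop W ⟶ V)) a b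
    exact NatTrans.mono_of_mono_app _
  have h2 : Mono (((Functor.whiskeringRight (Opens X)ᵒᵖ _ _).obj AddCommGrpCat.free.{u}).map
      (yoneda.map i)) := by
    have : ∀ W, Mono ((((Functor.whiskeringRight (Opens X)ᵒᵖ _ _).obj AddCommGrpCat.free.{u}).map
      (yoneda.map i)).app W) := by
      intro W
      have : Mono ((yoneda.map i).app W) := inferInstance
      exact inferInstanceAs (Mono (AddCommGrpCat.free.map ((yoneda.map i).app W)))
    exact NatTrans.mono_of_mono_app _
  exact inferInstanceAs (Mono ((presheafToSheaf (Opens.grothendieckTopology X) AddCommGrpCat.{u}).map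
    (((Functor.whiskeringRight (Opens X)ᵒᵖ _ _).obj AddCommGrpCat.free.{u}).map (yoneda.map i))))

theorem isFlasque_of_injective (F : CohTop.Ab X) [Injective F] : TopCat.Sheaf.IsFlasque F where
  epi {U V} i := by
    rw [AddCommGrpCat.epi_iff_surjective]
    intro s
    let φ : ZU V.unop ⟶ F := (homEquivSections V.unop F).symm s
    let m : ZU V.unop ⟶ ZU U.unop := (freeSheafFunctor X).map i.unop
    refine ⟨homEquivSections U.unop F (Injective.factorThru φ m), ?_⟩
    have h := homEquivSections_naturality_left i.unop F (Injective.factorThru φ m)
    rw [Injective.comp_factorThru] at h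
    exact h.symm.trans (Equiv.apply_symm_apply _ _)

end Groth.Agent.Lib.Helper22.CohTop
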