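import Groth.Agent.Lib.Helper22.RightDerivedExact
import Groth.Agent.Lib.Helper22.CohTop.Restrict
import Groth.Agent.Lib.Helper5.RestrInj
import Groth.Agent.Lib.Helper5.RightDerivedComp

/-!
# Higher direct images commute with restriction to an open of the base
-/

set_option autoImplicit false
universe u
open CategoryTheory TopologicalSpace Opposite CategoryTheory.Limits Abelian

namespace Groth.Agent.Lib.Helper22.CohTop

variable {X Y : TopCat.{u}} (f : X ⟶ Y) (V : Opens Y)

/-- The restriction `f⁻¹(V) → V` of `f`. -/
abbrev restrictMap : TopCat.of ((Opens.map f).obj V) ⟶ TopCat.of V :=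
  TopCat.ofHom ⟨(V : Set Y).restrictPreimage f, f.hom.continuous.restrictPreimage⟩

lemma map_ιU_obj (W : Opens (TopCat.of V)) :
    (Opens.map f).obj ((ιU V).obj W) =
      (ιU ((Opens.map f).obj V)).obj ((Opens.map (restrictMap f V)).obj W) := by
  ext x
  constructor
  · rintro ⟨y, hy, hyx⟩
    have hxV : x ∈ (Opens.map f).obj V := by
      change f x ∈ V
      rw [← hyx]
      exact y.2
    refine ⟨⟨x, hxV⟩, ?_, rfl⟩
    change (restrictMap f V) ⟨x, hxV⟩ ∈ W
    have : (restrictMap f V) ⟨x, hxV⟩ = y := Subtype.ext hyx.symm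
    rw [this]
    exact hy
  · rintro ⟨z, hz, rfl⟩
    exact ⟨(restrictMap f V) z, hz, rfl⟩

instance : (CohTop.restrFunctor V).PreservesHomology := {}

/-- `(f_* F)|_V ≅ g_* (F|_{f⁻¹ V})`, naturally in `F`. -/
noncomputable def pushRestrIso :
    CohTop.push f ⋙ CohTop.restrFunctor V ≅
      CohTop.restrFunctor ((Opens.map f).obj V) ⋙ CohTop.push (restrictMap f V) :=
  NatIso.ofComponents (fun F => (fullyFaithfulSheafToPresheaf _ _).preimageIso
    (NatIso.ofComponents (fun W => F.obj.mapIso (eqToIso (congrArg op (map_ιU_obj f V W.unop))))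
      (fun {W W'} i => by
        change F.obj.map _ ≫ F.obj.map _ = F.obj.map _ ≫ F.obj.map _
        rw [← F.obj.map_comp, ← F.obj.map_comp]
        congr 1)))
    (fun {F G} φ => by
      apply (fullyFaithfulSheafToPresheaf _ _).map_injective
      rw [Functor.map_comp, Functor.map_comp, Functor.FullyFaithful.preimageIso_hom,
        Functor.FullyFaithful.preimageIso_hom, Functor.FullyFaithful.map_preimage,
        Functor.FullyFaithful.map_preimage]
      refine NatTrans.ext (funext fun W => ?_)
      exact (φ.hom.naturality _).symm)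

instance : (CohTop.push (restrictMap f V)).Additive := CohTop.instAdditiveAbPush (restrictMap f V)

/-- **Higher direct images commute with restriction to an open subset of the base.** -/
theorem nonempty_restr_Rpush_iso (F : CohTop.Ab X) (p : ℕ) :
    Nonempty (CohTop.restr ((CohTop.Rpush f p).obj F) V ≅
      (CohTop.Rpush (restrictMap f V) p).obj (CohTop.restr F ((Opens.map f).obj V))) := by
  have e1 := DimShift.rightDerivedCompExactIso (CohTop.push f) (CohTop.restrFunctor V) p F
  have e2 := (DimShift.rightDerivedIsoOfNatIso (pushRestrIso f V) p).app F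
  have e3 := Groth.Agent.Lib.Helper5.RDComp.compIsoApp
    (CohTop.restrFunctor ((Opens.map f).obj V)) (CohTop.push (restrictMap f V)) p F
  exact ⟨e1.symm ≪≫ e2 ≪≫ e3⟩

end Groth.Agent.Lib.Helper22.CohTop
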