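import Groth.Agent.Lib.Helper22.CohTop.ClosedEmb
import Mathlib.CategoryTheory.Sites.SheafCohomology.MayerVietoris
import Mathlib.Topology.Sheaves.MayerVietoris

/-!
# Vanishing of cohomology via Mayer–Vietoris

* `subsingleton_HU_sup`: `H^n(U ∩ V) = 0`, `H^{n+1}(U) = 0`, `H^{n+1}(V) = 0` imply `H^{n+1}(U ∪ V) = 0`.
* `subsingleton_HU_bot`: `H^n(∅, F) = 0`.
* `subsingleton_HU_foldr_sup`: if `𝒜` is a class of opens stable under `⊓` whose members are
  `F`-acyclic, then `H^n` of a union of `t` members vanishes for `n ≥ t`.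
-/

set_option autoImplicit false
universe u
open CategoryTheory TopologicalSpace Opposite CategoryTheory.Limits Abelian

namespace Groth.Agent.Lib.Helper22.CohTop

variable {X : TopCat.{u}}

theorem subsingleton_H'_X₄ (S : (Opens.grothendieckTopology X).MayerVietorisSquare)
    (F : CohTop.Ab X) (n : ℕ)
    (h1 : Subsingleton (Sheaf.H'.{u} F n S.X₁)) (h2 : Subsingleton (Sheaf.H'.{u} F (n + 1) S.X₂))
    (h3 : Subsingleton (Sheaf.H'.{u} F (n + 1) S.X₃)) :
    Subsingleton (Sheaf.H'.{u} F (n + 1) S.X₄) := by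
  have hex : (ShortComplex.mk (S.δ F n (n + 1) rfl) (S.toBiprod F (n + 1))
      (S.δ_toBiprod F n (n + 1) rfl)).Exact := (S.sequence_exact F n (n + 1) rfl).exact 2
  rw [ShortComplex.ab_exact_iff] at hex
  have key : ∀ x : Sheaf.H'.{u} F (n + 1) S.X₄, x = 0 := by
    intro x
    have hx : (S.toBiprod F (n + 1)) x = 0 := by
      refine (S.toBiprod_apply F x).trans ?_
      have : ∀ (p : Sheaf.H'.{u} F (n + 1) S.X₂ × Sheaf.H'.{u} F (n + 1) S.X₃), p = 0 := fun p =>
        Prod.ext (Subsingleton.elim _ _) (Subsingleton.elim _ _)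
      exact (congrArg _ (this _)).trans (map_zero _)
    obtain ⟨y, hy⟩ := hex x hx
    have hy0 : y = 0 := h1.elim _ _
    rw [← hy, hy0, map_zero]
  exact ⟨fun a b => by rw [key a, key b]⟩

/-- Mayer–Vietoris vanishing. -/
theorem subsingleton_HU_sup (F : CohTop.Ab X) (U V : Opens X) (n : ℕ)
    (h1 : Subsingleton (CohTop.HU F n (U ⊓ V))) (h2 : Subsingleton (CohTop.HU F (n + 1) U))
    (h3 : Subsingleton (CohTop.HU F (n + 1) V)) :
    Subsingleton (CohTop.HU F (n + 1) (U ⊔ V)) :=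
  subsingleton_H'_X₄ (Opens.mayerVietorisSquare U V) F n h1 h2 h3

lemma isZero_ZU_bot : IsZero (ZU (⊥ : Opens X)) := by
  rw [IsZero.iff_id_eq_zero]
  have : Subsingleton ((ZU (⊥ : Opens X)).obj.obj (op ⊥)) :=
    subsingleton_sections_of_isEmpty _ _ rfl
  exact (homEquivSections (⊥ : Opens X) (ZU ⊥)).injective (Subsingleton.elim _ _)

/-- The cohomology of the empty open vanishes in all degrees. -/
theorem subsingleton_HU_bot (F : CohTop.Ab X) (n : ℕ) : Subsingleton (CohTop.HU F n ⊥) := by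
  have key : ∀ x : Ext (ZU (⊥ : Opens X)) F n, x = 0 := by
    intro x
    have h := Ext.mk₀_id_comp x
    rw [(IsZero.iff_id_eq_zero _).1 isZero_ZU_bot, Ext.mk₀_zero, Ext.zero_comp] at h
    exact h.symm
  exact ⟨fun a b => (key a).trans (key b).symm⟩

/-- If `𝒜` is stable under binary intersections and its members are `F`-acyclic, then the
cohomology of a union of `t` members of `𝒜` vanishes in degrees `≥ t`. -/
theorem subsingleton_HU_foldr_sup (F : CohTop.Ab X) (𝒜 : Opens X → Prop)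
    (hinf : ∀ V W, 𝒜 V → 𝒜 W → 𝒜 (V ⊓ W))
    (hacyc : ∀ V, 𝒜 V → ∀ q : ℕ, Subsingleton (CohTop.HU F (q + 1) V)) :
    ∀ (t : ℕ) (l : List (Opens X)), l.length = t → (∀ V ∈ l, 𝒜 V) → ∀ n : ℕ, t ≤ n →
      Subsingleton (CohTop.HU F n (l.foldr (· ⊔ ·) ⊥)) := by
  intro t
  induction t with
  | zero =>
    intro l hl _ n _
    rw [List.length_eq_zero_iff] at hl
    subst hl
    exact subsingleton_HU_bot F n
  | succ t ih =>
    intro l hl hA n hn
    obtain ⟨V, l', rfl⟩ := List.exists_cons_of_length_eq_add_one hl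
    have hl' : l'.length = t := by simpa using hl
    obtain ⟨m, rfl⟩ : ∃ m, n = m + 1 := ⟨n - 1, by omega⟩
    have hV : 𝒜 V := hA V (List.mem_cons_self)
    have hA' : ∀ W ∈ l', 𝒜 W := fun W hW => hA W (List.mem_cons_of_mem _ hW)
    rw [List.foldr_cons]
    refine subsingleton_HU_sup F V _ m ?_ (hacyc V hV m) ?_
    · -- `V ⊓ ⋃ l' = ⋃ (V ⊓ ·) l'`
      have hdist : V ⊓ l'.foldr (· ⊔ ·) ⊥ = (l'.map (V ⊓ ·)).foldr (· ⊔ ·) ⊥ := by
        clear hl hl' hA hA' ih
        induction l' with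
        | nil => simp
        | cons W l'' ih' =>
          rw [List.map_cons, List.foldr_cons, List.foldr_cons, inf_sup_left, ih']
      rw [hdist]
      refine ih _ (by simpa using hl') ?_ m (by omega)
      intro W hW
      rw [List.mem_map] at hW
      obtain ⟨W', hW', rfl⟩ := hW
      exact hinf _ _ hV (hA' W' hW')
    · exact ih l' hl' hA' (m + 1) (by omega)

end Groth.Agent.Lib.Helper22.CohTop
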