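import Groth.Agent.Lib.Helper22.CohTop.FlasqueAcyclic
import Mathlib.Topology.Sheaves.SheafCondition.UniqueGluing

/-!
# The constant sheaf on an irreducible space is flasque
-/

set_option autoImplicit false

universe u

open CategoryTheory TopologicalSpace Opposite CategoryTheory.Limits Abelian

namespace Groth.Agent.Lib.Helper22.CohTop

variable (X : TopCat.{u}) (A : Type u) [AddCommGroup A]

/-- Constant functions on an open. -/
def constSubgroup (U : Opens X) : AddSubgroup (U → A) where
  carrier := {f | ∀ x y, f x = f y}
  zero_mem' := fun _ _ => rfl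
  add_mem' := fun {f g} hf hg x y => by
    change f x + g x = f y + g y
    rw [hf x y, hg x y]
  neg_mem' := fun {f} hf x y => by
    change -f x = -f y
    rw [hf x y]

/-- Restriction of constant functions. -/
def constRes {U V : Opens X} (h : V ≤ U) : constSubgroup X A U →+ constSubgroup X A V where
  toFun f := ⟨fun x => f.1 ⟨x.1, h x.2⟩, fun _ _ => f.2 _ _⟩
  map_zero' := rfl
  map_add' _ _ := rfl

/-- The presheaf of constant functions. -/
def constFun : (Opens X)ᵒᵖ ⥤ AddCommGrpCat.{u} where
  obj U := AddCommGrpCat.of (constSubgroup X A U.unop)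
  map i := AddCommGrpCat.ofHom (constRes X A i.unop.le)
  map_id _ := rfl
  map_comp _ _ := rfl

lemma constFun_map_apply {U V : (Opens X)ᵒᵖ} (i : U ⟶ V) (f : constSubgroup X A U.unop)
    (x : V.unop) : (((constFun X A).map i).hom f).1 x = f.1 ⟨x.1, i.unop.le x.2⟩ := rfl

variable {X A}

theorem constFun_isSheaf [PreirreducibleSpace X] :
    TopCat.Presheaf.IsSheaf (constFun X A) := by
  rw [TopCat.Presheaf.isSheaf_iff_isSheafUniqueGluing]
  intro ι U sf hsf
  -- agreement of the local sections at common points
  have hcompat : ∀ (i j : ι) (x : X) (hi : x ∈ U i) (hj : x ∈ U j),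
      (sf i).1 ⟨x, hi⟩ = (sf j).1 ⟨x, hj⟩ := by
    intro i j x hi hj
    have h := congrArg (fun f : constSubgroup X A (U i ⊓ U j) => f.1 ⟨x, ⟨hi, hj⟩⟩) (hsf i j)
    exact h
  have hconst : ∀ (i j : ι) (x y : X) (hi : x ∈ U i) (hj : y ∈ U j),
      (sf i).1 ⟨x, hi⟩ = (sf j).1 ⟨y, hj⟩ := by
    intro i j x y hi hj
    obtain ⟨z, hzi, hzj⟩ := nonempty_preirreducible_inter (U i).isOpen (U j).isOpen ⟨x, hi⟩ ⟨y, hj⟩
    rw [(sf i).2 ⟨x, hi⟩ ⟨z, hzi⟩, (sf j).2 ⟨y, hj⟩ ⟨z, hzj⟩]
    exact hcompat i j z hzi hzj
  have hmem : ∀ x : (iSup U : Opens X), ∃ i, (x : X) ∈ U i := fun x => Opens.mem_iSup.mp x.2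
  choose idx hidx using hmem
  let s : constSubgroup X A (iSup U) :=
    ⟨fun x => (sf (idx x)).1 ⟨x.1, hidx x⟩, fun x y => hconst _ _ _ _ _ _⟩
  refine ⟨s, ?_, ?_⟩
  · intro i
    apply Subtype.ext
    funext x
    exact hconst _ _ _ _ _ _
  · intro s' hs'
    apply Subtype.ext
    funext x
    have h := congrArg (fun f : constSubgroup X A (U (idx x)) => f.1 ⟨x.1, hidx x⟩) (hs' (idx x))
    exact h

variable (X A)

/-- The sheaf of constant functions on a preirreducible space. -/
def constFunSheaf [PreirreducibleSpace X] : CohTop.Ab X := ⟨constFun X A, constFun_isSheaf⟩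

/-- The constant presheaf. -/
abbrev constPre : (Opens X)ᵒᵖ ⥤ AddCommGrpCat.{u} :=
  (Functor.const (Opens X)ᵒᵖ).obj (AddCommGrpCat.of A)

/-- Constants as constant functions. -/
def constIncl (U : Opens X) : A →+ constSubgroup X A U where
  toFun a := ⟨fun _ => a, fun _ _ => rfl⟩
  map_zero' := rfl
  map_add' _ _ := rfl

/-- The map from the constant presheaf to constant functions. -/
def constMap : constPre X A ⟶ constFun X A where
  app U := AddCommGrpCat.ofHom (constIncl X A U.unop)
  naturality _ _ _ := rfl

instance constFunSheaf_isFlasque [PreirreducibleSpace X] :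
    TopCat.Sheaf.IsFlasque (constFunSheaf X A) where
  epi {U V} i := by
    rw [AddCommGrpCat.epi_iff_surjective]
    intro f
    change constSubgroup X A V.unop at f
    by_cases hV : Nonempty V.unop
    · obtain ⟨x⟩ := hV
      refine ⟨constIncl X A U.unop (f.1 x), ?_⟩
      apply Subtype.ext
      funext y
      exact f.2 x y
    · refine ⟨0, ?_⟩
      apply Subtype.ext
      funext y
      exact (hV ⟨y⟩).elim

variable [PreirreducibleSpace X]

/-- The comparison from the constant sheaf to the sheaf of constant functions. -/
noncomputable def constComparison : CohTop.const X A ⟶ constFunSheaf X A :=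
  ((sheafificationAdjunction (Opens.grothendieckTopology X) AddCommGrpCat.{u}).homEquiv
    (constPre X A) (constFunSheaf X A)).symm (constMap X A)

lemma toSheafify_constComparison :
    toSheafify (Opens.grothendieckTopology X) (constPre X A) ≫ (constComparison X A).hom =
      constMap X A := by
  have h := ((sheafificationAdjunction (Opens.grothendieckTopology X) AddCommGrpCat.{u}).homEquiv
    (constPre X A) (constFunSheaf X A)).apply_symm_apply (constMap X A)
  rw [Adjunction.homEquiv_unit] at h
  exact h

lemma toSheafify_constComparison_apply (U : Opens X) (a : A) :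
    ((constComparison X A).hom.app (op U)).hom
      (((toSheafify (Opens.grothendieckTopology X) (constPre X A)).app (op U)).hom a) =
      constIncl X A U a := by
  have h := ConcreteCategory.congr_hom (NatTrans.congr_app (toSheafify_constComparison X A) (op U)) a
  rw [NatTrans.comp_app, ConcreteCategory.comp_apply] at h
  exact h

instance epi_constComparison : Epi (constComparison X A) := by
  refine (TopCat.Sheaf.isLocallySurjective_iff_epi (constComparison X A)).mp ?_
  rw [TopCat.Presheaf.isLocallySurjective_iff]
  intro U t x hx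
  change constSubgroup X A U at t
  refine ⟨U, le_rfl, ⟨((toSheafify (Opens.grothendieckTopology X) (constPre X A)).app (op U)).hom
    (t.1 ⟨x, hx⟩), ?_⟩, hx⟩
  refine (toSheafify_constComparison_apply X A U _).trans ?_
  apply Subtype.ext
  funext y
  exact t.2 _ _

instance mono_constComparison : Mono (constComparison X A) := by
  have h : Mono (constComparison X A).hom := by
    have : ∀ U, Mono ((constComparison X A).hom.app U) := by
      intro U
      rw [AddCommGrpCat.mono_iff_injective, injective_iff_map_eq_zero]
      intro s hs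
      have hη : TopCat.Presheaf.IsLocallySurjective
          (toSheafify (Opens.grothendieckTopology X) (constPre X A)) :=
        inferInstanceAs (CategoryTheory.Presheaf.IsLocallySurjective
          (Opens.grothendieckTopology X) (toSheafify (Opens.grothendieckTopology X) (constPre X A)))
      have key := (TopCat.Presheaf.isLocallySurjective_iff _).mp hη U.unop s
      have key' : ∀ (x : X) (_ : x ∈ U.unop), ∃ (V : Opens X) (h : V ≤ U.unop) (a : A), x ∈ V ∧
          ((toSheafify (Opens.grothendieckTopology X) (constPre X A)).app (op V)).hom a =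
            ((CohTop.const X A).obj.map (homOfLE h).op).hom s := by
        intro x hx
        obtain ⟨V, hV, ⟨a, ha⟩, hxV⟩ := key x hx
        exact ⟨V, hV, a, hxV, ha⟩
      choose V hVU a hxV ha using key'
      refine TopCat.Sheaf.eq_of_locally_eq' (CohTop.const X A) (fun x : U.unop => V x.1 x.2) U.unop
        (fun x => homOfLE (hVU x.1 x.2)) (fun x hx => Opens.mem_iSup.mpr ⟨⟨x, hx⟩, hxV x hx⟩)
        s 0 ?_
      intro x
      rw [map_zero]
      -- `s` restricted to `V x` is the image of the constant `a x`, which must vanish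
      have h1 := ConcreteCategory.congr_hom
        ((constComparison X A).hom.naturality (homOfLE (hVU x.1 x.2)).op) s
      rw [ConcreteCategory.comp_apply, ConcreteCategory.comp_apply, hs, map_zero] at h1
      have h2 := toSheafify_constComparison_apply X A (V x.1 x.2) (a x.1 x.2)
      rw [ha x.1 x.2] at h2
      have h3 : constIncl X A (V x.1 x.2) (a x.1 x.2) = 0 := h2.symm.trans h1
      have h4 : a x.1 x.2 = 0 :=
        congrArg (fun f : constSubgroup X A (V x.1 x.2) => f.1 ⟨x.1, hxV x.1 x.2⟩) h3
      have h5 := ha x.1 x.2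
      rw [h4, map_zero] at h5
      exact h5.symm
    exact NatTrans.mono_of_mono_app _
  exact Sheaf.Hom.mono_of_presheaf_mono _ _ (constComparison X A)

instance isIso_constComparison : IsIso (constComparison X A) :=
  isIso_of_mono_of_epi _

theorem subsingleton_H_const_succ (p : ℕ) : Subsingleton (CohTop.H (CohTop.const X A) (p + 1)) := by
  refine subsingleton_of_forall_eq 0 fun x => ?_
  have h0 : x.comp (Ext.mk₀ (constComparison X A)) (add_zero (p + 1)) = 0 :=
    ext_succ_eq_zero_of_flasque (liftsFlasque_const X) p (constFunSheaf X A) _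
  have h1 : x = (x.comp (Ext.mk₀ (constComparison X A)) (add_zero (p + 1))).comp
      (Ext.mk₀ (inv (constComparison X A))) (add_zero (p + 1)) := by
    rw [Ext.comp_assoc_of_third_deg_zero, Ext.mk₀_comp_mk₀, IsIso.hom_inv_id, Ext.comp_mk₀_id]
  rw [h1, h0, Ext.zero_comp]

end Groth.Agent.Lib.Helper22.CohTop
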