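import Groth.Agent.Lib.Helper22.CohTop.Sections
import Groth.Agent.Lib.Helper22.ExtCompare
import Groth.Agent.Lib.Helper22.DimShiftIso

/-!
# The derived functors of `sheafToPresheaf` are the cohomology presheaves
-/

set_option autoImplicit false
universe u
open CategoryTheory TopologicalSpace Opposite CategoryTheory.Limits Abelian

namespace Groth.Agent.Lib.Helper22.CohTop

variable {X : TopCat.{u}}

/-- Abelian presheaves on `X`. -/
abbrev PSh (X : TopCat.{u}) := (Opens X)ᵒᵖ ⥤ AddCommGrpCat.{u}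

/-- The forgetful functor from sheaves to presheaves. -/
abbrev Gf (X : TopCat.{u}) : CohTop.Ab X ⥤ PSh X :=
  sheafToPresheaf (Opens.grothendieckTopology X) AddCommGrpCat.{u}

/-- The cohomology presheaf functors. -/
noncomputable abbrev Tn (X : TopCat.{u}) (n : ℕ) : CohTop.Ab X ⥤ PSh X :=
  Sheaf.cohomologyPresheafFunctor.{u} (Opens.grothendieckTopology X) n

lemma Tn_obj_map_apply (n : ℕ) (F : CohTop.Ab X) {U V : (Opens X)ᵒᵖ} (i : U ⟶ V)
    (x : Ext (ZU U.unop) F n) :
    (((Tn X n).obj F).map i).hom x =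
      (Ext.mk₀ ((freeSheafFunctor X).map i.unop)).comp x (zero_add n) := rfl

lemma Tn_map_app_apply (n : ℕ) {F F' : CohTop.Ab X} (φ : F ⟶ F') (U : (Opens X)ᵒᵖ)
    (x : Ext (ZU U.unop) F n) :
    (((Tn X n).map φ).app U).hom x = x.comp (Ext.mk₀ φ) (add_zero n) := rfl

/-- `Ext⁰(ℤ_U, F) ≃+ F(U)`. -/
noncomputable def ext0Equiv (U : Opens X) (F : CohTop.Ab X) :
    Ext (ZU U) F 0 ≃+ F.obj.obj (op U) :=
  Ext.addEquiv₀.trans (homAddEquivSections U F)

lemma ext0Equiv_mk₀ (U : Opens X) (F : CohTop.Ab X) (ψ : ZU U ⟶ F) :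
    ext0Equiv U F (Ext.mk₀ ψ) = homEquivSections U F ψ := by
  change homEquivSections U F (Ext.addEquiv₀ (Ext.addEquiv₀.symm ψ)) = _
  rw [AddEquiv.apply_symm_apply]

lemma ext0Equiv_naturality_left {U V : Opens X} (i : V ⟶ U) (F : CohTop.Ab X)
    (x : Ext (ZU U) F 0) :
    ext0Equiv V F ((Ext.mk₀ ((freeSheafFunctor X).map i)).comp x (zero_add 0)) =
      (F.obj.map i.op).hom (ext0Equiv U F x) := by
  obtain ⟨ψ, rfl⟩ := Ext.addEquiv₀.symm.surjective x
  change ext0Equiv V F ((Ext.mk₀ _).comp (Ext.mk₀ ψ) _) = _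
  rw [Ext.mk₀_comp_mk₀, ext0Equiv_mk₀]
  change _ = (F.obj.map i.op).hom (ext0Equiv U F (Ext.mk₀ ψ))
  rw [ext0Equiv_mk₀, homEquivSections_naturality_left]

lemma ext0Equiv_naturality_right (U : Opens X) {F F' : CohTop.Ab X} (φ : F ⟶ F')
    (x : Ext (ZU U) F 0) :
    ext0Equiv U F' (x.comp (Ext.mk₀ φ) (add_zero 0)) =
      (φ.hom.app (op U)).hom (ext0Equiv U F x) := by
  obtain ⟨ψ, rfl⟩ := Ext.addEquiv₀.symm.surjective x
  change ext0Equiv U F' ((Ext.mk₀ ψ).comp (Ext.mk₀ φ) _) = _
  rw [Ext.mk₀_comp_mk₀, ext0Equiv_mk₀]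
  change _ = (φ.hom.app (op U)).hom (ext0Equiv U F (Ext.mk₀ ψ))
  rw [ext0Equiv_mk₀, homEquivSections_naturality_right]

/-- `T⁰ ≅ sheafToPresheaf`. -/
noncomputable def T0Iso : Tn X 0 ≅ Gf X :=
  NatIso.ofComponents (fun F => NatIso.ofComponents
    (fun U => (ext0Equiv U.unop F).toAddCommGrpIso)
    (fun {U V} i => by
      ext x
      exact ext0Equiv_naturality_left i.unop F x))
    (fun {F F'} φ => by
      ext U x
      exact ext0Equiv_naturality_right U.unop φ x)

lemma comp_eq_zero_apply {A B C : AddCommGrpCat.{u}} (f : A ⟶ B) (g : B ⟶ C) (h : f ≫ g = 0)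
    (a : A) : g.hom (f.hom a) = 0 := by
  rw [← AddCommGrpCat.comp_apply, h]
  rfl

section connecting

variable {S : ShortComplex (CohTop.Ab X)} (hS : S.ShortExact)

/-- The connecting morphism of cohomology presheaves. -/
noncomputable def δT (n : ℕ) : (Tn X n).obj S.X₃ ⟶ (Tn X (n + 1)).obj S.X₁ where
  app U := AddCommGrpCat.ofHom (hS.extClass.postcomp (ZU U.unop) rfl)
  naturality {U V} i := by
    ext x
    change ((Ext.mk₀ ((freeSheafFunctor X).map i.unop)).comp x (zero_add n)).comp hS.extClass rfl =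
      (Ext.mk₀ ((freeSheafFunctor X).map i.unop)).comp (x.comp hS.extClass rfl) (zero_add (n + 1))
    exact Ext.comp_assoc _ _ _ _ _ (by omega)

lemma δT_app_apply (n : ℕ) (U : (Opens X)ᵒᵖ) (x : Ext (ZU U.unop) S.X₃ n) :
    ((δT hS n).app U).hom x = x.comp hS.extClass rfl := rfl

lemma map_g_comp_δT : (Tn X 0).map S.g ≫ δT hS 0 = 0 := by
  have key : ∀ (V : Opens X) (x : Ext (ZU V) S.X₂ 0),
      (x.comp (Ext.mk₀ S.g) (add_zero 0)).comp hS.extClass (zero_add 1) = 0 := by
    intro V x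
    rw [Ext.comp_assoc_of_second_deg_zero, hS.comp_extClass, Ext.comp_zero]
  ext U x
  exact key U.unop x

variable [Injective S.X₂]

/-- With injective middle term, the connecting morphism is an isomorphism in positive degrees. -/
lemma isIso_δT_succ (n : ℕ) : IsIso (δT hS (n + 1)) := by
  have : ∀ U, IsIso ((δT hS (n + 1)).app U) := by
    intro U
    rw [ConcreteCategory.isIso_iff_bijective]
    exact (ExtCompare.shiftEquiv hS (ZU U.unop) n (fun y => Ext.eq_zero_of_injective y)
      (fun y => Ext.eq_zero_of_injective y)).bijective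
  exact NatIso.isIso_of_isIso_app _

/-- `coker (T⁰(I) → T⁰(Q)) ≅ T¹(A)`. -/
noncomputable def cokerT0Iso : cokernel ((Tn X 0).map S.g) ≅ (Tn X 1).obj S.X₁ := by
  let c : cokernel ((Tn X 0).map S.g) ⟶ (Tn X 1).obj S.X₁ :=
    cokernel.desc _ (δT hS 0) (map_g_comp_δT hS)
  have hc : cokernel.π ((Tn X 0).map S.g) ≫ c = δT hS 0 := cokernel.π_desc _ _ _
  have : ∀ U, IsIso (c.app U) := by
    intro U
    rw [ConcreteCategory.isIso_iff_bijective]
    have hπ : Function.Surjective ((cokernel.π ((Tn X 0).map S.g)).app U).hom := by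
      have : Epi ((cokernel.π ((Tn X 0).map S.g)).app U) := inferInstance
      exact (AddCommGrpCat.epi_iff_surjective _).1 this
    have hcU : ∀ x, (c.app U).hom (((cokernel.π ((Tn X 0).map S.g)).app U).hom x) =
        ((δT hS 0).app U).hom x := by
      intro x
      rw [← hc]
      rfl
    constructor
    · rw [injective_iff_map_eq_zero]
      intro y hy
      obtain ⟨x, rfl⟩ := hπ y
      rw [hcU] at hy
      have hy' : (show Ext (ZU U.unop) S.X₃ 0 from x).comp hS.extClass (zero_add 1) = 0 := hy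
      obtain ⟨z, hz⟩ := Ext.covariant_sequence_exact₃ (ZU U.unop) hS _ (zero_add 1) hy'
      have h1 : ((Tn X 0).map S.g).app U ≫ (cokernel.π ((Tn X 0).map S.g)).app U = 0 := by
        rw [← NatTrans.comp_app, cokernel.condition]
        rfl
      have h0 : ((cokernel.π ((Tn X 0).map S.g)).app U).hom
          ((((Tn X 0).map S.g).app U).hom z) = 0 := comp_eq_zero_apply _ _ h1 z
      have hz' : (((Tn X 0).map S.g).app U).hom z = x := hz
      rw [hz'] at h0
      exact h0
    · intro y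
      obtain ⟨x, hx⟩ := Ext.covariant_sequence_exact₁ (ZU U.unop) hS y
        (Ext.eq_zero_of_injective _) (zero_add 1)
      exact ⟨((cokernel.π ((Tn X 0).map S.g)).app U).hom x, (hcU x).trans hx⟩
  have : IsIso c := NatIso.isIso_of_isIso_app _
  exact asIso c

end connecting

/-- **The derived functors of the forgetful functor are the cohomology presheaves.** -/
theorem nonempty_rightDerived_sheafToPresheaf_iso (p : ℕ) (F : CohTop.Ab X) :
    Nonempty (((Gf X).rightDerived p).obj F ≅ (Tn X p).obj F) := by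
  cases p with
  | zero => exact ⟨(Gf X).rightDerivedZeroIsoSelf.app F ≪≫ (T0Iso.app F).symm⟩
  | succ p =>
    induction p generalizing F with
    | zero =>
      have e1 := DimShift.rightDerivedOneIso (Gf X) (DimShift.injSC F) (DimShift.injSC_shortExact F)
      have e2 : cokernel ((Gf X).map (DimShift.injSC F).g) ≅
          cokernel ((Tn X 0).map (DimShift.injSC F).g) :=
        cokernel.mapIso _ _ (T0Iso.app _).symm (T0Iso.app _).symm
          (T0Iso.inv.naturality (DimShift.injSC F).g)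
      exact ⟨e1 ≪≫ e2 ≪≫ cokerT0Iso (DimShift.injSC_shortExact F)⟩
    | succ p ih =>
      have e1 := DimShift.rightDerivedSuccSuccIso (Gf X) (DimShift.injSC F)
        (DimShift.injSC_shortExact F) p
      obtain ⟨e2⟩ := ih (DimShift.injSC F).X₃
      have := isIso_δT_succ (DimShift.injSC_shortExact F) p
      exact ⟨e1 ≪≫ e2 ≪≫ asIso (δT (DimShift.injSC_shortExact F) (p + 1))⟩

end Groth.Agent.Lib.Helper22.CohTop
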