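import Groth.Agent.Lib.Helper22.CohTop.TowerLim

/-!
# Flasque towers of abelian sheaves

Lifting lemma for an epimorphism with flasque kernel; limits of flasque towers are flasque;
`lim` is exact on short exact sequences of towers whose first term is a flasque tower.
-/

set_option autoImplicit false

universe u

open CategoryTheory TopologicalSpace Opposite CategoryTheory.Limits

namespace Groth.Agent.Lib.Helper22.CohTop

variable {X : TopCat.{u}}

/-- The short complex `0 ⟶ ker p ⟶ F ⟶ G`. -/
noncomputable def kerSC {F G : CohTop.Ab X} (p : F ⟶ G) : ShortComplex (CohTop.Ab X) :=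
  ShortComplex.mk (kernel.ι p) p (kernel.condition p)

lemma kerSC_shortExact {F G : CohTop.Ab X} (p : F ⟶ G) [Epi p] : (kerSC p).ShortExact where
  exact := ShortComplex.exact_of_f_is_kernel _ (kernelIsKernel p)
  mono_f := by dsimp [kerSC]; infer_instance
  epi_g := by dsimp [kerSC]; infer_instance

/-- Surjectivity of restriction for a flasque sheaf. -/
lemma IsFlasque.exists_extend {F : CohTop.Ab X} (hF : TopCat.Sheaf.IsFlasque F)
    {V U' : (Opens X)ᵒᵖ} (i : V ⟶ U') (b : F.obj.obj U') : ∃ c : F.obj.obj V, F.obj.map i c = b :=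
  (AddCommGrpCat.epi_iff_surjective _).mp (hF.epi i) b

/-- For an epimorphism with flasque kernel, sections over `V` surject onto sections over `V`. -/
lemma exists_lift_of_flasque_kernel₀ {F G : CohTop.Ab X} (p : F ⟶ G) [Epi p]
    (hK : TopCat.Sheaf.IsFlasque (kernel p : CohTop.Ab X)) (V : (Opens X)ᵒᵖ)
    (a : G.obj.obj V) : ∃ c : F.obj.obj V, p.hom.app V c = a := by
  have hS := kerSC_shortExact p
  have : TopCat.Sheaf.IsFlasque (kerSC p).X₁ := hK
  obtain ⟨V⟩ := V
  have hepi : Epi ((kerSC p).g.1.app (op V)) := TopCat.Sheaf.IsFlasque.epi_of_shortExact hS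
  exact (AddCommGrpCat.epi_iff_surjective _).mp hepi a

/-- Key lifting lemma: for an epimorphism `p : F ⟶ G` with flasque kernel, a section `a` of `G`
over `V` and a section `b` of `F` over `U' ≤ V` lifting `a|_{U'}`, there is a lift of `a` over `V`
restricting to `b`. -/
theorem exists_lift_of_flasque_kernel {F G : CohTop.Ab X} (p : F ⟶ G) [Epi p]
    (hK : TopCat.Sheaf.IsFlasque (kernel p : CohTop.Ab X)) {V U' : (Opens X)ᵒᵖ} (i : V ⟶ U')
    (a : G.obj.obj V) (b : F.obj.obj U') (hab : p.hom.app U' b = G.obj.map i a) :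
    ∃ c : F.obj.obj V, p.hom.app V c = a ∧ F.obj.map i c = b := by
  have hS := kerSC_shortExact p
  obtain ⟨c', hc'⟩ := exists_lift_of_flasque_kernel₀ p hK V a
  have hd : p.hom.app U' (b - F.obj.map i c') = 0 := by
    rw [map_sub, hab, NatTrans.naturality_apply, hc', sub_self]
  obtain ⟨U'⟩ := U'
  obtain ⟨k, hk⟩ := TopCat.Sheaf.sections_exact_of_left_exact hS.1 hS.2 (b - F.obj.map i c') hd
  obtain ⟨k', hk'⟩ := IsFlasque.exists_extend hK i k
  refine ⟨c' + (kernel.ι p).hom.app V k', ?_, ?_⟩
  · rw [map_add, hc']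
    have h0 : (kernel.ι p).hom.app V ≫ p.hom.app V = 0 := by
      rw [← NatTrans.comp_app, ← ObjectProperty.FullSubcategory.comp_hom, kernel.condition]
      rfl
    have h1 := ConcreteCategory.congr_hom h0 k'
    rw [ConcreteCategory.comp_apply] at h1
    rw [h1]
    simp
  · rw [map_add]
    have h2 : (F.obj.map i) ((kernel.ι p).hom.app V k') = (kernel.ι p).hom.app (op U') k := by
      rw [← hk']
      exact (NatTrans.naturality_apply (kernel.ι p).hom i k').symm
    rw [h2]
    have hk2 : (kernel.ι p).hom.app (op U') k = b - F.obj.map i c' := hk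
    rw [hk2]
    abel

/-- The limit of a flasque tower is flasque. -/
theorem isFlasque_limit_of_flasque_tower (M : ℕᵒᵖ ⥤ CohTop.Ab X)
    (h0 : TopCat.Sheaf.IsFlasque (M.obj (op 0)))
    (hepi : ∀ n : ℕ, Epi (trans M n))
    (hker : ∀ n : ℕ, TopCat.Sheaf.IsFlasque (kernel (trans M n) : CohTop.Ab X)) :
    TopCat.Sheaf.IsFlasque (limit M : CohTop.Ab X) := by
  constructor
  intro V U' i
  refine (AddCommGrpCat.epi_iff_surjective _).mpr fun s => ?_
  obtain ⟨t, htP, htc⟩ := exists_compatible_seq
    (A := fun n => (M.obj (op n)).obj.obj V)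
    (p := fun n => (trans M n).hom.app V)
    (P := fun n a => (M.obj (op n)).obj.map i a = (limit.π M (op n)).hom.app U' s)
    (IsFlasque.exists_extend h0 i _)
    (fun n a ha => by
      have := hepi n
      have hw := limit.w M (homOfLE (Nat.le_succ n)).op
      have hab : (trans M n).hom.app U' ((limit.π M (op (n + 1))).hom.app U' s) =
          (M.obj (op n)).obj.map i a := by
        rw [ha, ← hw]
        rfl
      obtain ⟨c, hc1, hc2⟩ := exists_lift_of_flasque_kernel (trans M n) (hker n) i a
        ((limit.π M (op (n + 1))).hom.app U' s) hab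
      exact ⟨c, hc2, hc1⟩)
  obtain ⟨V⟩ := V
  obtain ⟨T, hT⟩ := exists_limit_sec M V t htc
  refine ⟨T, ?_⟩
  obtain ⟨U'⟩ := U'
  apply limit_sec_ext
  intro n
  rw [NatTrans.naturality_apply, hT, htP]

/-- `lim` is right exact on a levelwise short exact sequence of towers whose first term is a
flasque tower: sections of `lim S.X₂` surject onto those of `lim S.X₃`. -/
theorem limMap_sections_surjective (S : ShortComplex (ℕᵒᵖ ⥤ CohTop.Ab X)) (hS : S.ShortExact)
    (hfl : ∀ n : ℕ, TopCat.Sheaf.IsFlasque (S.X₁.obj (op n)))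
    (hepi : ∀ n : ℕ, Epi (trans S.X₁ n))
    (hker : ∀ n : ℕ, TopCat.Sheaf.IsFlasque (kernel (trans S.X₁ n) : CohTop.Ab X))
    (V : Opens X) (s : (limit S.X₃).obj.obj (op V)) :
    ∃ T : (limit S.X₂).obj.obj (op V), (limMap S.g).hom.app (op V) T = s := by
  -- levelwise short exact sequences
  have hSn : ∀ n : ℕ, (S.map ((evaluation ℕᵒᵖ (CohTop.Ab X)).obj (op n))).ShortExact :=
    fun n => hS.map_of_exact _
  obtain ⟨t, htP, htc⟩ := exists_compatible_seq
    (A := fun n => (S.X₂.obj (op n)).obj.obj (op V))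
    (p := fun n => (trans S.X₂ n).hom.app (op V))
    (P := fun n a => (S.g.app (op n)).hom.app (op V) a = (limit.π S.X₃ (op n)).hom.app (op V) s)
    (by
      have : TopCat.Sheaf.IsFlasque (S.map ((evaluation ℕᵒᵖ (CohTop.Ab X)).obj (op 0))).X₁ := hfl 0
      have hepi0 : Epi ((S.map ((evaluation ℕᵒᵖ (CohTop.Ab X)).obj (op 0))).g.1.app (op V)) :=
        TopCat.Sheaf.IsFlasque.epi_of_shortExact (hSn 0)
      exact (AddCommGrpCat.epi_iff_surjective _).mp hepi0 _)
    (fun n a ha => by
      have := hepi n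
      have : TopCat.Sheaf.IsFlasque (S.map ((evaluation ℕᵒᵖ (CohTop.Ab X)).obj (op (n + 1)))).X₁ :=
        hfl (n + 1)
      have hepi1 : Epi ((S.map ((evaluation ℕᵒᵖ (CohTop.Ab X)).obj (op (n + 1)))).g.1.app (op V)) :=
        TopCat.Sheaf.IsFlasque.epi_of_shortExact (hSn (n + 1))
      obtain ⟨a', ha''⟩ : ∃ a' : (S.X₂.obj (op (n + 1))).obj.obj (op V),
          (S.g.app (op (n + 1))).hom.app (op V) a' =
            (limit.π S.X₃ (op (n + 1))).hom.app (op V) s :=
        (AddCommGrpCat.epi_iff_surjective _).mp hepi1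
          ((limit.π S.X₃ (op (n + 1))).hom.app (op V) s)
      -- `p a' - a` maps to zero in `X₃ n`
      have hw := limit.w S.X₃ (homOfLE (Nat.le_succ n)).op
      have hnat : (S.g.app (op n)).hom.app (op V) ((trans S.X₂ n).hom.app (op V) a') =
          (trans S.X₃ n).hom.app (op V) ((S.g.app (op (n + 1))).hom.app (op V) a') := by
        have := S.g.naturality (homOfLE (Nat.le_succ n)).op
        have h2 := congrArg (fun φ => (ConcreteCategory.hom (φ.hom.app (op V))) a') this
        exact h2
      have hz : (S.g.app (op n)).hom.app (op V) ((trans S.X₂ n).hom.app (op V) a' - a) = 0 := by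
        rw [map_sub, hnat, ha'', ha, ← hw]
        exact sub_self _
      obtain ⟨b, hb⟩ := TopCat.Sheaf.sections_exact_of_left_exact (hSn n).1 (hSn n).2
        ((trans S.X₂ n).hom.app (op V) a' - a) hz
      obtain ⟨c, hc⟩ := exists_lift_of_flasque_kernel₀ (trans S.X₁ n) (hker n) (op V) b
      refine ⟨a' - (S.f.app (op (n + 1))).hom.app (op V) c, ?_, ?_⟩
      · rw [map_sub, ha'']
        have h0 : S.f.app (op (n + 1)) ≫ S.g.app (op (n + 1)) = 0 := by
          rw [← NatTrans.comp_app, S.zero]; rfl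
        have h1 := congrArg (fun φ => (ConcreteCategory.hom (φ.hom.app (op V))) c) h0
        have h1' : (S.g.app (op (n + 1))).hom.app (op V) ((S.f.app (op (n + 1))).hom.app (op V) c)
            = 0 := h1
        rw [h1', sub_zero]
      · have hnatf : (trans S.X₂ n).hom.app (op V) ((S.f.app (op (n + 1))).hom.app (op V) c) =
            (S.f.app (op n)).hom.app (op V) ((trans S.X₁ n).hom.app (op V) c) := by
          have := S.f.naturality (homOfLE (Nat.le_succ n)).op
          have h2 := congrArg (fun φ => (ConcreteCategory.hom (φ.hom.app (op V))) c) this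
          exact h2.symm
        have hb' : (S.f.app (op n)).hom.app (op V) b = (trans S.X₂ n).hom.app (op V) a' - a := hb
        change (trans S.X₂ n).hom.app (op V) (a' - (S.f.app (op (n + 1))).hom.app (op V) c) = a
        rw [map_sub, hnatf, hc, hb']
        abel)
  obtain ⟨T, hT⟩ := exists_limit_sec S.X₂ V t htc
  refine ⟨T, ?_⟩
  apply limit_sec_ext
  intro n
  rw [← htP n, ← hT n]
  have := limMap_π S.g (op n)
  have h2 := congrArg (fun φ => (ConcreteCategory.hom (φ.hom.app (op V))) T) this
  exact h2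

/-- `lim` of an epimorphism of towers with flasque-tower kernel is an epimorphism. -/
theorem epi_limMap_of_shortExact_flasque_tower (S : ShortComplex (ℕᵒᵖ ⥤ CohTop.Ab X))
    (hS : S.ShortExact)
    (hfl : ∀ n : ℕ, TopCat.Sheaf.IsFlasque (S.X₁.obj (op n)))
    (hepi : ∀ n : ℕ, Epi (trans S.X₁ n))
    (hker : ∀ n : ℕ, TopCat.Sheaf.IsFlasque (kernel (trans S.X₁ n) : CohTop.Ab X)) :
    Epi (limMap S.g) := by
  have : ∀ V : (Opens X)ᵒᵖ, Epi ((limMap S.g).hom.app V) := by
    intro V
    obtain ⟨V⟩ := V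
    exact (AddCommGrpCat.epi_iff_surjective _).mpr
      (limMap_sections_surjective S hS hfl hepi hker V)
  have : Epi (limMap S.g).hom := NatTrans.epi_of_epi_app _
  exact Sheaf.Hom.epi_of_presheaf_epi _ _ _

end Groth.Agent.Lib.Helper22.CohTop
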