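import Groth.Prelude.Def_CohTop
import Mathlib.Topology.Sheaves.SheafOfFunctions
import Mathlib.Topology.Category.TopCat.Adjunctions

/-!
# First step of the Godement resolution
-/

set_option autoImplicit false

universe u

open CategoryTheory TopologicalSpace Opposite CategoryTheory.Limits

namespace Groth.Agent.Lib.Helper22.CohTop.Godement

/-- Sections of an abelian sheaf over an empty open are unique. -/
lemma eq_of_isEmpty {X : TopCat.{u}} (K : TopCat.Sheaf AddCommGrpCat.{u} X) (W : Opens X)
    (hW : W = ⊥) (s t : K.obj.obj (op W)) : s = t := by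
  subst hW
  refine K.eq_of_locally_eq' (fun i : PEmpty.{1} => i.elim) ⊥ (fun i => i.elim) ?_ s t
    (fun i => i.elim)
  exact bot_le

/-- Every abelian sheaf on a discrete space is flasque. -/
lemma isFlasque_of_discrete {Xd : TopCat.{u}} [DiscreteTopology Xd]
    (K : TopCat.Sheaf AddCommGrpCat.{u} Xd) : TopCat.Sheaf.IsFlasque K where
  epi {U V} i := by
    rw [AddCommGrpCat.epi_iff_surjective]
    intro t
    have hVU : V.unop ≤ U.unop := leOfHom i.unop
    let W : Opens Xd := ⟨(U.unop : Set Xd) \ V.unop, isOpen_discrete _⟩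
    have hWU : W ≤ U.unop := fun x hx => hx.1
    let fam : Bool → Opens Xd := fun b => if b then V.unop else W
    let iUV : ∀ b, fam b ⟶ U.unop := fun b => by
      cases b
      · exact homOfLE hWU
      · exact homOfLE hVU
    have hcover : U.unop ≤ iSup fam := by
      intro x hx
      by_cases hxV : x ∈ V.unop
      · exact Opens.mem_iSup.2 ⟨true, hxV⟩
      · exact Opens.mem_iSup.2 ⟨false, ⟨hx, hxV⟩⟩
    let sf : ∀ b, K.obj.obj (op (fam b)) := fun b => by
      cases b
      · exact 0
      · exact t
    have hdisj : ∀ b b', b ≠ b' → fam b ⊓ fam b' = ⊥ := by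
      intro b b' hbb'
      ext x
      simp only [Opens.coe_inf, Set.mem_inter_iff, SetLike.mem_coe, Opens.coe_bot,
        Set.mem_empty_iff_false, iff_false, not_and]
      cases b <;> cases b'
      · exact absurd rfl hbb'
      · exact fun h1 h2 => h1.2 h2
      · exact fun h1 h2 => h2.2 h1
      · exact absurd rfl hbb'
    have hcompat : TopCat.Presheaf.IsCompatible K.obj fam sf := by
      intro b b'
      by_cases hbb' : b = b'
      · subst hbb'
        rfl
      · exact eq_of_isEmpty K _ (hdisj b b' hbb') _ _
    obtain ⟨s, hs, -⟩ := K.existsUnique_gluing' fam U.unop iUV hcover sf hcompat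
    exact ⟨s, hs true⟩

section prod

variable {X Y : TopCat.{u}} (g : Y ⟶ X) (F : TopCat.Sheaf AddCommGrpCat.{u} X)

/-- The family of stalks of `F` at the images of the points of `Y`. -/
abbrev stalkFam (y : Y) : Type u := ↑(F.presheaf.stalk (g y))

/-- The presheaf `S ↦ ∏_{y ∈ S} F_{g y}` on `Y`. -/
noncomputable def prodPresheaf : TopCat.Presheaf AddCommGrpCat.{u} Y where
  obj S := AddCommGrpCat.of (∀ y : S.unop, stalkFam g F y.1)
  map {S S'} i := AddCommGrpCat.ofHom
    { toFun := fun a y => a (i.unop y)
      map_zero' := rfl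
      map_add' := fun _ _ => rfl }

lemma prodPresheaf_isSheaf : (prodPresheaf g F).IsSheaf := by
  rw [TopCat.Presheaf.isSheaf_iff_isSheaf_comp (CategoryTheory.forget AddCommGrpCat.{u})]
  exact TopCat.Presheaf.toTypes_isSheaf Y (stalkFam g F)

/-- The sheaf `S ↦ ∏_{y ∈ S} F_{g y}` on `Y`. -/
noncomputable def prodSheaf : TopCat.Sheaf AddCommGrpCat.{u} Y := ⟨prodPresheaf g F, prodPresheaf_isSheaf g F⟩

/-- The map of germs `F → g_* (∏ F_{g y})`. -/
noncomputable def germMap :
    F ⟶ (TopCat.Sheaf.pushforward AddCommGrpCat.{u} g).obj (prodSheaf g F) :=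
  ⟨{ app := fun U => AddCommGrpCat.ofHom
        { toFun := fun s (y : ((Opens.map g).obj U.unop : Opens Y)) =>
            F.presheaf.germ U.unop (g y.1) y.2 s
          map_zero' := by
            funext y
            exact map_zero _
          map_add' := fun s t => by
            funext y
            exact map_add _ s t }
     naturality := fun U V i => by
      ext s
      funext y
      exact (TopCat.Presheaf.germ_res_apply F.presheaf i.unop (g y.1) y.2 s) }⟩

lemma germMap_app_apply (U : Opens X) (s : F.obj.obj (op U))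
    (y : ((Opens.map g).obj U : Opens Y)) :
    ((germMap g F).hom.app (op U)).hom s y = F.presheaf.germ U (g y.1) y.2 s := rfl

/-- If `g` is surjective, the map of germs is a monomorphism. -/
lemma mono_germMap (hg : Function.Surjective g) : Mono (germMap g F) := by
  have h1 : ∀ U : (Opens X)ᵒᵖ, Mono ((germMap g F).hom.app U) := by
    intro U
    rw [AddCommGrpCat.mono_iff_injective]
    intro s t hst
    apply TopCat.Presheaf.section_ext F U.unop
    intro x hx
    obtain ⟨y, rfl⟩ := hg x
    exact congrFun hst ⟨y, hx⟩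
  have h2 : Mono (germMap g F).hom := NatTrans.mono_of_mono_app _
  exact Sheaf.Hom.mono_of_presheaf_mono _ _ _

end prod

/-- If an object embeds into the image of the right adjoint, the unit at it is a monomorphism. -/
lemma mono_unit_of_mono {𝒞 𝒟 : Type*} [Category 𝒞] [Category 𝒟] {L : 𝒞 ⥤ 𝒟} {R : 𝒟 ⥤ 𝒞}
    (adj : L ⊣ R) {A : 𝒞} {H : 𝒟} (m : A ⟶ R.obj H) [Mono m] : Mono (adj.unit.app A) := by
  have h : adj.unit.app A ≫ R.map ((adj.homEquiv A H).symm m) = m := by
    have h1 := adj.homEquiv_unit (f := (adj.homEquiv A H).symm m)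
    rw [Equiv.apply_symm_apply] at h1
    exact h1.symm
  exact mono_of_mono_fac h

instance discreteTopology_discrete (X : TopCat.{u}) :
    DiscreteTopology ↑((forget TopCat.{u} ⋙ TopCat.discrete).obj X) := ⟨rfl⟩

lemma counit_surjective (X : TopCat.{u}) : Function.Surjective (TopCat.adj₁.counit.app X) :=
  fun x => ⟨x, rfl⟩

/-- **First step of the Godement resolution.** -/
theorem godement_first_step {X : TopCat.{u}} (F : CohTop.Ab X) :
    Mono ((TopCat.Sheaf.pullbackPushforwardAdjunction AddCommGrpCat.{u}
      (TopCat.adj₁.counit.app X)).unit.app F) ∧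
    TopCat.Sheaf.IsFlasque ((CohTop.push (TopCat.adj₁.counit.app X)).obj
      ((CohTop.pull (TopCat.adj₁.counit.app X)).obj F)) := by
  constructor
  · have := mono_germMap (TopCat.adj₁.counit.app X) F (counit_surjective X)
    exact mono_unit_of_mono (TopCat.Sheaf.pullbackPushforwardAdjunction AddCommGrpCat.{u}
      (TopCat.adj₁.counit.app X)) (germMap (TopCat.adj₁.counit.app X) F)
  · have := isFlasque_of_discrete ((CohTop.pull (TopCat.adj₁.counit.app X)).obj F)
    exact TopCat.Sheaf.IsFlasque.pushforward_isFlasque _ _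

end Groth.Agent.Lib.Helper22.CohTop.Godement
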