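import Groth.Agent.Lib.Helper22.CohTop.FlasqueAcyclic

/-!
# Cohomology classes die locally
-/

set_option autoImplicit false

universe u

open CategoryTheory TopologicalSpace Opposite CategoryTheory.Limits Abelian

namespace Groth.Agent.Lib.Helper22.CohTop

variable {X : TopCat.{u}}

lemma res_apply (F : CohTop.Ab X) (n : ℕ) {U V : Opens X} (h : V ≤ U) (ξ : CohTop.HU F n U) :
    CohTop.res F n h ξ =
      (Ext.mk₀ ((freeSheafFunctor X).map (homOfLE h))).comp ξ (zero_add n) := rfl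

/-- Local lifting of sections along an epimorphism of sheaves, in terms of `ℤ_U`. -/
lemma exists_local_lift {G H : CohTop.Ab X} (g : G ⟶ H) [Epi g] (U : Opens X) (φ : ZU U ⟶ H)
    (x : X) (hx : x ∈ U) :
    ∃ (V : Opens X) (hV : V ≤ U), x ∈ V ∧ ∃ ψ : ZU V ⟶ G,
      ψ ≫ g = (freeSheafFunctor X).map (homOfLE hV) ≫ φ := by
  have hls := (TopCat.Sheaf.isLocallySurjective_iff_epi g).mpr ‹Epi g›
  obtain ⟨V, hV, ⟨t, ht⟩, hxV⟩ :=
    (TopCat.Presheaf.isLocallySurjective_iff g.hom).mp hls U (homEquivSections U H φ) x hx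
  refine ⟨V, hV, hxV, (homEquivSections V G).symm t, ?_⟩
  apply (homEquivSections V H).injective
  rw [homEquivSections_naturality_right, Equiv.apply_symm_apply,
    homEquivSections_naturality_left]
  exact ht

theorem kill_class (n : ℕ) : ∀ (F : CohTop.Ab X) (U : Opens X) (ξ : Ext (ZU U) F (n + 1))
    (x : X) (_ : x ∈ U), ∃ (V : Opens X) (hV : V ≤ U), x ∈ V ∧
      (Ext.mk₀ ((freeSheafFunctor X).map (homOfLE hV))).comp ξ (zero_add (n + 1)) = 0 := by
  induction n with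
  | zero =>
    intro F U ξ x hx
    have hS := injSC_shortExact F
    have h0 : Ext.comp (X := ZU U) ξ (Ext.mk₀ (injSC F).f) (add_zero 1) = 0 :=
      Ext.eq_zero_of_injective _
    obtain ⟨x₃, hx₃⟩ := Ext.covariant_sequence_exact₁ (ZU U) hS ξ h0 (zero_add 1)
    have : Epi (injSC F).g := hS.epi_g
    obtain ⟨V, hV, hxV, ψ, hψ⟩ := exists_local_lift (injSC F).g U (Ext.homEquiv₀ x₃) x hx
    refine ⟨V, hV, hxV, ?_⟩
    rw [← hx₃, ← Ext.mk₀_homEquiv₀_apply x₃, ← Ext.comp_assoc_of_second_deg_zero,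
      Ext.mk₀_comp_mk₀, ← hψ, ← Ext.mk₀_comp_mk₀, Ext.comp_assoc_of_second_deg_zero,
      hS.comp_extClass, Ext.comp_zero]
  | succ n ih =>
    intro F U ξ x hx
    have hS := injSC_shortExact F
    have h0 : Ext.comp (X := ZU U) ξ (Ext.mk₀ (injSC F).f) (add_zero (n + 1 + 1)) = 0 :=
      Ext.eq_zero_of_injective _
    obtain ⟨x₃, hx₃⟩ := Ext.covariant_sequence_exact₁ (ZU U) hS ξ h0 (n₀ := n + 1) rfl
    obtain ⟨V, hV, hxV, hres⟩ := ih (injSC F).X₃ U x₃ x hx
    refine ⟨V, hV, hxV, ?_⟩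
    rw [← hx₃, ← Ext.comp_assoc (a₁₂ := n + 1) (h₁₂ := zero_add _) (h₂₃ := rfl) (h := by omega),
      hres, Ext.zero_comp]

end Groth.Agent.Lib.Helper22.CohTop
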