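import Mathlib
import Groth.Agent.Lib.Helper22.CohTop.ClosedEmb

/-!
# Profinite spaces are acyclic: global sections are exact
-/

set_option autoImplicit false
set_option linter.unusedSectionVars false

universe u

open CategoryTheory TopologicalSpace Opposite CategoryTheory.Limits Abelian

namespace Groth.Agent.Lib.Helper22.CohTop.Profinite

variable {X : TopCat.{u}}

/-- `ULift ℤ` is a projective abelian group. -/
instance projective_uliftInt : Projective (AddCommGrpCat.of (ULift.{u} ℤ)) where
  factors {E Y} f e _ := by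
    have he : Function.Surjective e := (AddCommGrpCat.epi_iff_surjective e).1 inferInstance
    obtain ⟨a, ha⟩ := he (f ⟨1⟩)
    let g : ULift.{u} ℤ →+ E := (zmultiplesHom E a).comp AddEquiv.ulift.toAddMonoidHom
    refine ⟨AddCommGrpCat.ofHom g, ?_⟩
    ext ⟨n⟩
    have h1 : ∀ m : ℤ, e (g ⟨m⟩) = f ⟨m⟩ := by
      intro m
      have hg : g ⟨m⟩ = m • a := rfl
      rw [hg, map_zsmul, ha, ← map_zsmul]
      congr 1
      change (⟨m • (1 : ℤ)⟩ : ULift.{u} ℤ) = ⟨m⟩
      rw [smul_eq_mul, mul_one]
    exact h1 n

variable [CompactSpace X] [T2Space X] [TotallyDisconnectedSpace X]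

/-- On a profinite space, an epimorphism of abelian sheaves is surjective on global sections. -/
theorem surjective_top_of_epi {F G : CohTop.Ab X} (e : F ⟶ G) [Epi e] :
    Function.Surjective (e.hom.app (op (⊤ : Opens X))) := by
  intro s
  have hls : TopCat.Presheaf.IsLocallySurjective e.hom :=
    (TopCat.Sheaf.isLocallySurjective_iff_epi e).mpr ‹Epi e›
  rw [TopCat.Presheaf.isLocallySurjective_iff] at hls
  have hloc := hls ⊤ s
  choose V hV hlift hxV using fun x : X => hloc x (Set.mem_univ x)
  have hcov : IsOpenCover V := by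
    rw [IsOpenCover, eq_top_iff]
    intro x _
    exact Opens.mem_iSup.2 ⟨x, hxV x⟩
  obtain ⟨n, W, hW, hWcov, hWdisj⟩ := hcov.exists_finite_nonempty_disjoint_clopen_cover
  -- the opens of the disjoint cover
  let Wo : ULift.{u} (Fin n) → Opens X := fun j => ⟨(W j.down : Set X), (W j.down).isClopen.isOpen⟩
  have hWV : ∀ j : ULift.{u} (Fin n), ∃ x : X, Wo j ≤ V x := fun j => (hW j.down).2
  choose c hc using hWV
  choose t ht using hlift
  -- local lifts on the disjoint cover
  let sf : ∀ j : ULift.{u} (Fin n), F.obj.obj (op (Wo j)) :=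
    fun j => F.obj.map (homOfLE (hc j)).op (t (c j))
  have hcompat : TopCat.Presheaf.IsCompatible F.obj Wo sf := by
    intro i j
    by_cases hij : i = j
    · subst hij
      rfl
    · have hbot : Wo i ⊓ Wo j = ⊥ := by
        have hne : i.down ≠ j.down := fun h => hij (ULift.ext _ _ h)
        have hd := hWdisj hne
        rw [Function.onFun, disjoint_iff] at hd
        apply Opens.ext
        have h2 := congrArg (fun Z : Clopens X => (Z : Set X)) hd
        exact h2
      have := subsingleton_sections_of_isEmpty F (Wo i ⊓ Wo j) hbot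
      exact Subsingleton.elim _ _
  have hcover : (⊤ : Opens X) ≤ iSup Wo := by
    intro x _
    obtain ⟨j, hj⟩ := Set.mem_iUnion.1 (hWcov (Set.mem_univ x))
    exact Opens.mem_iSup.2 ⟨⟨j⟩, hj⟩
  obtain ⟨g, hg, -⟩ := TopCat.Sheaf.existsUnique_gluing' F Wo ⊤ (fun j => homOfLE le_top) hcover
    sf hcompat
  refine ⟨g, ?_⟩
  apply TopCat.Sheaf.eq_of_locally_eq' G Wo ⊤ (fun j => homOfLE le_top) hcover
  intro j
  have h1 : G.obj.map (homOfLE (le_top : Wo j ≤ ⊤)).op (e.hom.app (op ⊤) g) =
      e.hom.app (op (Wo j)) (F.obj.map (homOfLE (le_top : Wo j ≤ ⊤)).op g) :=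
    (NatTrans.naturality_apply e.hom (homOfLE (le_top : Wo j ≤ ⊤)).op g).symm
  rw [h1, hg j]
  have h2 : e.hom.app (op (Wo j)) (F.obj.map (homOfLE (hc j)).op (t (c j))) =
      G.obj.map (homOfLE (hc j)).op (e.hom.app (op (V (c j))) (t (c j))) :=
    NatTrans.naturality_apply e.hom (homOfLE (hc j)).op (t (c j))
  change e.hom.app (op (Wo j)) (F.obj.map (homOfLE (hc j)).op (t (c j))) = _
  rw [h2, ht (c j)]
  change G.obj.map (homOfLE (hc j)).op (G.obj.map (homOfLE (hV (c j))).op s) = _
  rw [← ConcreteCategory.comp_apply, ← G.obj.map_comp]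
  rfl

instance : ((sheafSections (Opens.grothendieckTopology X) AddCommGrpCat.{u}).obj
    (op (⊤ : Opens X))).PreservesEpimorphisms where
  preserves {F G} e _ := by
    rw [AddCommGrpCat.epi_iff_surjective]
    exact surjective_top_of_epi e

/-- The constant sheaf `ℤ` on a profinite space is projective. -/
instance projective_constantSheaf :
    Projective ((constantSheaf (Opens.grothendieckTopology X) AddCommGrpCat.{u}).obj
      (AddCommGrpCat.of (ULift.{u} ℤ))) :=
  (constantSheafAdj (Opens.grothendieckTopology X) AddCommGrpCat.{u}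
    (T := (⊤ : Opens X)) isTerminalTop).map_projective _ inferInstance

theorem subsingleton_H_succ (F : CohTop.Ab X) (p : ℕ) : Subsingleton (CohTop.H F (p + 1)) :=
  subsingleton_of_forall_eq 0 fun x => Ext.eq_zero_of_projective x

end Groth.Agent.Lib.Helper22.CohTop.Profinite
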