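import Groth.Agent.Lib.Helper22.CohTop.Pushforward
import Groth.Agent.Lib.Helper22.DimShiftIso
import Mathlib.CategoryTheory.Sites.Pullback
import Mathlib.CategoryTheory.Preadditive.Injective.Basic

/-!
# Pushforward of abelian sheaves preserves injectives; degenerate Leray for composites
-/

set_option autoImplicit false
universe u
open CategoryTheory TopologicalSpace Opposite CategoryTheory.Limits

namespace Groth.Agent.Lib.Helper22.CohTop

variable {X Y Z : TopCat.{u}} (f : X ⟶ Y) (g : Y ⟶ Z)

/-- `f_*` preserves injective abelian sheaves (its left adjoint `f⁻¹` is exact). -/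
theorem injective_push (I : CohTop.Ab X) [Injective I] : Injective ((CohTop.push f).obj I) := by
  have h1 : Limits.PreservesFiniteLimits (TopCat.Sheaf.pullback AddCommGrpCat.{u} f) := by
    unfold TopCat.Sheaf.pullback
    exact CategoryTheory.Functor.SmallCategories.instPreservesFiniteLimitsSheafSheafPullbackOfRepresentablyFlat
      (TopologicalSpace.Opens.map f) AddCommGrpCat.{u} _ _
  have h2 : Limits.PreservesLimitsOfShape Limits.WalkingCospan
      (TopCat.Sheaf.pullback AddCommGrpCat.{u} f) := inferInstance
  have h3 : (TopCat.Sheaf.pullback AddCommGrpCat.{u} f).PreservesMonomorphisms :=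
    CategoryTheory.preservesMonomorphisms_of_preservesLimitsOfShape _
  exact @Injective.injective_of_adjoint _ _ _ _ _ _ h3
    (TopCat.Sheaf.pullbackPushforwardAdjunction AddCommGrpCat.{u} f) I ‹Injective I›

/-- `g_* ∘ f_* = (g ∘ f)_*`. -/
noncomputable def pushCompIso : CohTop.push f ⋙ CohTop.push g ≅ CohTop.push (f ≫ g) := Iso.refl _

/-- **Degenerate Leray spectral sequence for a composite**: if `R^q f_* F = 0` for `q > 0` then
`R^p g_* (f_* F) ≅ R^p (g ∘ f)_* F`. -/
theorem nonempty_Rpush_comp_iso (F : CohTop.Ab X)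
    (hF : ∀ q : ℕ, IsZero ((CohTop.Rpush f (q + 1)).obj F)) (p : ℕ) :
    Nonempty ((CohTop.Rpush g p).obj ((CohTop.push f).obj F) ≅ (CohTop.Rpush (f ≫ g) p).obj F) :=
  DimShift.nonempty_rightDerived_comp_iso (CohTop.push f) (CohTop.push g) (CohTop.push (f ≫ g))
    (pushCompIso f g) (fun I _ => injective_push f I) p F hF

end Groth.Agent.Lib.Helper22.CohTop
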