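import Groth.Agent.Lib.Helper22.CohTop.DerivedPresheaf
import Groth.Agent.Lib.Helper22.RightDerivedExact

/-!
# `R^i f_* F` is the sheafification of `V ↦ H^i(f⁻¹ V, F)`
-/

set_option autoImplicit false
universe u
open CategoryTheory TopologicalSpace Opposite CategoryTheory.Limits Abelian

namespace Groth.Agent.Lib.Helper22.CohTop

variable {X Y : TopCat.{u}} (f : X ⟶ Y)

/-- Presheaf pushforward followed by sheafification: an exact functor. -/
noncomputable abbrev Ef : PSh X ⥤ CohTop.Ab Y :=
  (Functor.whiskeringLeft _ _ AddCommGrpCat.{u}).obj (Opens.map f).op ⋙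
    presheafToSheaf (Opens.grothendieckTopology Y) AddCommGrpCat.{u}

instance : (Ef f).Additive := inferInstance

instance : (Ef f).PreservesHomology := {}

/-- `f_* = a ∘ f_*^{pre} ∘ forget`. -/
noncomputable def GfEfIso : Gf X ⋙ Ef f ≅ CohTop.push f :=
  (Functor.isoWhiskerLeft (CohTop.push f)
    (sheafificationNatIso (Opens.grothendieckTopology Y) AddCommGrpCat.{u})).symm

/-- **`R^i f_* F` is the sheafification of `V ↦ H^i(f⁻¹ V, F)`.** -/
theorem nonempty_Rpush_iso_sheafify (F : CohTop.Ab X) (i : ℕ) :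
    Nonempty ((CohTop.Rpush f i).obj F ≅
      (presheafToSheaf (Opens.grothendieckTopology Y) AddCommGrpCat.{u}).obj
        ((Opens.map f).op ⋙ Sheaf.cohomologyPresheaf.{u} F i)) := by
  obtain ⟨e⟩ := nonempty_rightDerived_sheafToPresheaf_iso i F
  exact ⟨(DimShift.rightDerivedIsoOfNatIso (GfEfIso f) i).symm.app F ≪≫
    DimShift.rightDerivedCompExactIso (Gf X) (Ef f) i F ≪≫ (Ef f).mapIso e⟩

end Groth.Agent.Lib.Helper22.CohTop
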