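import Groth.Prelude.Def_CohTop

/-!
# Sections of an abelian sheaf as morphisms out of the free sheaf on an open
-/

set_option autoImplicit false

universe u

open CategoryTheory TopologicalSpace Opposite CategoryTheory.Limits

namespace Groth.Agent.Lib.Helper22.CohTop

variable {X : TopCat.{u}}

/-- The functor sending an open `U` to the free abelian sheaf `ℤ_U`. -/
noncomputable abbrev freeSheafFunctor (X : TopCat.{u}) : Opens X ⥤ CohTop.Ab X :=
  yoneda ⋙ (Functor.whiskeringRight _ _ _).obj AddCommGrpCat.free ⋙
    presheafToSheaf (Opens.grothendieckTopology X) AddCommGrpCat.{u}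

/-- The free abelian sheaf `ℤ_U` on an open `U`. -/
noncomputable abbrev ZU (U : Opens X) : CohTop.Ab X := (freeSheafFunctor X).obj U

/-- The free presheaf on `U`. -/
noncomputable abbrev ZUpre (U : Opens X) : (Opens X)ᵒᵖ ⥤ AddCommGrpCat.{u} :=
  yoneda.obj U ⋙ AddCommGrpCat.free

example (U : Opens X) : ZU U = (presheafToSheaf _ _).obj (ZUpre U) := rfl

example (F : CohTop.Ab X) (n : ℕ) (U : Opens X) :
    CohTop.HU F n U = Abelian.Ext (ZU U) F n := rfl

/-- The equivalence `Hom(ℤ_U, G) ≃ G(U)`. -/
noncomputable def homEquivSections (U : Opens X) (G : CohTop.Ab X) :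
    (ZU U ⟶ G) ≃ G.obj.obj (op U) :=
  ((sheafificationAdjunction (Opens.grothendieckTopology X) AddCommGrpCat.{u}).homEquiv
    (ZUpre U) G).trans
  (((AddCommGrpCat.adj.{u}.whiskerRight (Opens X)ᵒᵖ).homEquiv (yoneda.obj U) G.obj).trans
    yonedaEquiv)

/-- The tautological section of `ℤ_U` over `U`. -/
noncomputable def unitSec (U : Opens X) : (ZU U).obj.obj (op U) :=
  ((toSheafify (Opens.grothendieckTopology X) (ZUpre U)).app (op U)).hom
    (FreeAbelianGroup.of (𝟙 U))

lemma homEquivSections_apply (U : Opens X) (G : CohTop.Ab X) (φ : ZU U ⟶ G) :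
    homEquivSections U G φ = (φ.hom.app (op U)).hom (unitSec U) := by
  simp only [homEquivSections, unitSec, Equiv.trans_apply]
  rw [Adjunction.homEquiv_unit, Adjunction.homEquiv_unit, yonedaEquiv_apply]
  simp
  rfl

lemma homEquivSections_naturality_right (U : Opens X) {G G' : CohTop.Ab X} (φ : ZU U ⟶ G)
    (g : G ⟶ G') :
    homEquivSections U G' (φ ≫ g) = (g.hom.app (op U)).hom (homEquivSections U G φ) := by
  rw [homEquivSections_apply, homEquivSections_apply]
  rfl

lemma free_map_of {α β : Type u} (f : α ⟶ β) (x : α) :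
    (AddCommGrpCat.free.map f).hom (FreeAbelianGroup.of x) = FreeAbelianGroup.of (f x) := by
  rw [AddCommGrpCat.free_map_coe]
  exact FreeAbelianGroup.map_of_apply _

lemma freeSheafFunctor_map_unitSec {U V : Opens X} (i : V ⟶ U) :
    (((freeSheafFunctor X).map i).hom.app (op V)).hom (unitSec V) =
      ((ZU U).obj.map i.op).hom (unitSec U) := by
  have h1 := ConcreteCategory.congr_hom (NatTrans.congr_app
    (toSheafify_naturality (Opens.grothendieckTopology X)
      (Functor.whiskerRight (yoneda.map i) AddCommGrpCat.free)) (op V))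
    (FreeAbelianGroup.of (𝟙 V))
  have h2 := ConcreteCategory.congr_hom
    ((toSheafify (Opens.grothendieckTopology X) (ZUpre U)).naturality i.op)
    (FreeAbelianGroup.of (𝟙 U))
  rw [NatTrans.comp_app, NatTrans.comp_app, ConcreteCategory.comp_apply,
    ConcreteCategory.comp_apply] at h1
  rw [ConcreteCategory.comp_apply, ConcreteCategory.comp_apply] at h2
  refine h1.symm.trans (Eq.trans ?_ h2)
  congr 1

lemma homEquivSections_naturality_left {U V : Opens X} (i : V ⟶ U) (G : CohTop.Ab X)
    (ψ : ZU U ⟶ G) :
    homEquivSections V G ((freeSheafFunctor X).map i ≫ ψ) =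
      (G.obj.map i.op).hom (homEquivSections U G ψ) := by
  rw [homEquivSections_apply, homEquivSections_apply]
  have h := ConcreteCategory.congr_hom (ψ.hom.naturality i.op) (unitSec U)
  rw [ConcreteCategory.comp_apply, ConcreteCategory.comp_apply] at h
  rw [← h, ← freeSheafFunctor_map_unitSec]
  rfl

/-- `Hom(ℤ_U, G) ≃+ G(U)`. -/
noncomputable def homAddEquivSections (U : Opens X) (G : CohTop.Ab X) :
    (ZU U ⟶ G) ≃+ G.obj.obj (op U) :=
  { homEquivSections U G with
    map_add' := fun φ ψ => by
      change homEquivSections U G (φ + ψ) = homEquivSections U G φ + homEquivSections U G ψ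
      rw [homEquivSections_apply, homEquivSections_apply, homEquivSections_apply,
        Sheaf.Hom.add_app]
      rfl }

@[simp] lemma homAddEquivSections_apply (U : Opens X) (G : CohTop.Ab X) (φ : ZU U ⟶ G) :
    homAddEquivSections U G φ = homEquivSections U G φ := rfl

end Groth.Agent.Lib.Helper22.CohTop
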