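import Groth.Agent.Lib.Helper22.CohTop.FlasqueAcyclic

/-!
# Sections of a limit of a tower of abelian sheaves

For `M : ℕᵒᵖ ⥤ CohTop.Ab X` the sections of `limit M` over an open `V` are the compatible
sequences of sections of the `M.obj (op n)`.
-/

set_option autoImplicit false

universe u

open CategoryTheory TopologicalSpace Opposite CategoryTheory.Limits

namespace Groth.Agent.Lib.Helper22.CohTop

/-- A dependent-choice lemma: build a compatible sequence satisfying a predicate. -/
theorem exists_compatible_seq {A : ℕ → Type u} (p : ∀ n, A (n + 1) → A n) (P : ∀ n, A n → Prop)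
    (h0 : ∃ a, P 0 a) (hs : ∀ n a, P n a → ∃ b, P (n + 1) b ∧ p n b = a) :
    ∃ t : ∀ n, A n, (∀ n, P n (t n)) ∧ ∀ n, p n (t (n + 1)) = t n := by
  classical
  let T : ∀ n, {a : A n // P n a} := fun n =>
    Nat.rec (motive := fun n => {a : A n // P n a}) ⟨h0.choose, h0.choose_spec⟩
      (fun n a => ⟨(hs n a.1 a.2).choose, (hs n a.1 a.2).choose_spec.1⟩) n
  exact ⟨fun n => (T n).1, fun n => (T n).2, fun n => (hs n (T n).1 (T n).2).choose_spec.2⟩

variable {X : TopCat.{u}}

/-- Sections over `V` as a functor on abelian sheaves. -/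
noncomputable abbrev sec (V : Opens X) : CohTop.Ab X ⥤ AddCommGrpCat.{u} :=
  sheafToPresheaf (Opens.grothendieckTopology X) AddCommGrpCat.{u} ⋙
    (evaluation (Opens X)ᵒᵖ AddCommGrpCat.{u}).obj (op V)

variable (M : ℕᵒᵖ ⥤ CohTop.Ab X)

/-- The transition map of a tower. -/
noncomputable abbrev trans (n : ℕ) : M.obj (op (n + 1)) ⟶ M.obj (op n) :=
  M.map (homOfLE (Nat.le_succ n)).op

/-- Sections of the limit are determined by their projections. -/
theorem limit_sec_ext (V : Opens X) (s s' : (limit M).obj.obj (op V))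
    (h : ∀ n : ℕ, (limit.π M (op n)).hom.app (op V) s = (limit.π M (op n)).hom.app (op V) s') :
    s = s' := by
  have hl := isLimitOfPreserves (sec V ⋙ forget AddCommGrpCat.{u}) (limit.isLimit M)
  apply (Types.isLimitEquivSections hl).injective
  ext j
  obtain ⟨n⟩ := j
  rw [Types.isLimitEquivSections_apply, Types.isLimitEquivSections_apply]
  exact h n

/-- A successively compatible sequence of sections is compatible. -/
theorem compatible_of_succ (V : Opens X) (t : ∀ n : ℕ, (M.obj (op n)).obj.obj (op V))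
    (ht : ∀ n, (trans M n).hom.app (op V) (t (n + 1)) = t n) {n m : ℕ} (f : (op n : ℕᵒᵖ) ⟶ op m) :
    (M.map f).hom.app (op V) (t n) = t m := by
  have hmn : m ≤ n := leOfHom f.unop
  obtain ⟨k, rfl⟩ := Nat.exists_eq_add_of_le hmn
  induction k with
  | zero =>
    have : f = 𝟙 _ := Quiver.Hom.unop_inj (Subsingleton.elim _ _)
    rw [this, M.map_id]
    rfl
  | succ k ih =>
    have hf : f = (homOfLE (Nat.le_succ (m + k))).op ≫ (homOfLE (Nat.le_add_right m k)).op :=
      Quiver.Hom.unop_inj (Subsingleton.elim _ _)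
    rw [hf, M.map_comp]
    have := ih (homOfLE (Nat.le_add_right m k)).op (Nat.le_add_right m k)
    rw [← this, ← ht (m + k)]
    rfl

/-- A successively compatible sequence of sections glues to a section of the limit. -/
theorem exists_limit_sec (V : Opens X) (t : ∀ n : ℕ, (M.obj (op n)).obj.obj (op V))
    (ht : ∀ n, (trans M n).hom.app (op V) (t (n + 1)) = t n) :
    ∃ T : (limit M).obj.obj (op V), ∀ n : ℕ, (limit.π M (op n)).hom.app (op V) T = t n := by
  have hl := isLimitOfPreserves (sec V ⋙ forget AddCommGrpCat.{u}) (limit.isLimit M)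
  let σ : (M ⋙ sec V ⋙ forget AddCommGrpCat.{u}).sections :=
    ⟨fun j => t j.unop, by
      intro j j' f
      obtain ⟨n⟩ := j
      obtain ⟨m⟩ := j'
      exact compatible_of_succ M V t ht f⟩
  refine ⟨(Types.isLimitEquivSections hl).symm σ, fun n => ?_⟩
  exact Types.isLimitEquivSections_symm_apply hl σ (op n)

end Groth.Agent.Lib.Helper22.CohTop
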